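import Groth.Agent.GaSplit.Cocycle

/-! Symmetric multiplicative cocycles on the truncated polynomial ring `R[X]/(X^(p^n))`. -/

set_option autoImplicit false

universe u

open MvPolynomial

noncomputable section

namespace Groth.Agent.GaSplit

variable {Q : Type u} [CommRing Q] {σ : Type} (q : ℕ)

/-- The coefficients of degree `< d` with all exponents `< q` vanish. -/
def Low (d : ℕ) (f : MvPolynomial σ Q) : Prop :=
  ∀ t : σ →₀ ℕ, (∀ i, t i < q) → Finsupp.degree t < d → coeff t f = 0

variable {q}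

theorem Low.add {d : ℕ} {f g : MvPolynomial σ Q} (hf : Low q d f) (hg : Low q d g) : Low q d (f + g) :=
  fun t h h' => by rw [coeff_add, hf t h h', hg t h h', add_zero]

theorem Low.sub {d : ℕ} {f g : MvPolynomial σ Q} (hf : Low q d f) (hg : Low q d g) : Low q d (f - g) :=
  fun t h h' => by rw [coeff_sub, hf t h h', hg t h h', sub_zero]

theorem Low.neg {d : ℕ} {f : MvPolynomial σ Q} (hf : Low q d f) : Low q d (-f) :=
  fun t h h' => by rw [coeff_neg, hf t h h', neg_zero]

theorem low_zero (f : MvPolynomial σ Q) : Low q 0 f := fun _ _ h => absurd h (Nat.not_lt_zero _)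

theorem Low.mul {a b : ℕ} {f g : MvPolynomial σ Q} (hf : Low q a f) (hg : Low q b g) : Low q (a + b) (f * g) := by
  classical
  intro t ht htd
  rw [coeff_mul]
  refine Finset.sum_eq_zero fun x hx => ?_
  rw [Finset.HasAntidiagonal.mem_antidiagonal] at hx
  subst hx
  rw [map_add] at htd
  by_cases h : Finsupp.degree x.1 < a
  · rw [hf x.1 (fun i => lt_of_le_of_lt (by simp) (ht i)) h, zero_mul]
  · rw [hg x.2 (fun i => lt_of_le_of_lt (by simp) (ht i)) (by omega), mul_zero]

theorem Low.mono {a b : ℕ} (h : b ≤ a) {f : MvPolynomial σ Q} (hf : Low q a f) : Low q b f :=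
  fun t ht htd => hf t ht (by omega)

theorem Low.mul_right {a : ℕ} {f : MvPolynomial σ Q} (hf : Low q a f) (g : MvPolynomial σ Q) :
    Low q a (f * g) := (hf.mul (low_zero g)).mono (by omega)

theorem low_one {f : MvPolynomial σ Q} (h : coeff 0 f = 0) : Low q 1 f := fun t _ htd => by
  rw [show t = 0 from (Finsupp.degree_eq_zero_iff t).1 (by omega)]
  exact h

theorem Low.pow {a : ℕ} {f : MvPolynomial σ Q} (hf : Low q a f) (k : ℕ) : Low q (k * a) (f ^ k) := by
  induction k with
  | zero => rw [zero_mul]; exact low_zero _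
  | succ k ih => rw [pow_succ, add_one_mul]; exact ih.mul hf

theorem low_X_pow (i : σ) (k : ℕ) : Low q k ((X i : MvPolynomial σ Q) ^ k) := fun t _ htd => by
  classical
  rw [X_pow_eq_monomial, coeff_monomial, if_neg]
  rintro rfl
  rw [Finsupp.degree_single] at htd
  omega

variable (Q σ q)

/-- The ideal of polynomials without monomials with all exponents `< q`. -/
def trI : Ideal (MvPolynomial σ Q) where
  carrier := {f | ∀ t : σ →₀ ℕ, (∀ i, t i < q) → coeff t f = 0}
  zero_mem' := fun t _ => coeff_zero t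
  add_mem' := fun hf hg t ht => by rw [coeff_add, hf t ht, hg t ht, add_zero]
  smul_mem' := fun c f hf t ht => by
    classical
    rw [smul_eq_mul, coeff_mul]
    refine Finset.sum_eq_zero fun x hx => ?_
    rw [Finset.HasAntidiagonal.mem_antidiagonal] at hx
    subst hx
    rw [hf x.2 fun i => lt_of_le_of_lt (by simp) (ht i), mul_zero]

/-- The truncated polynomial ring. -/
abbrev T : Type u := MvPolynomial σ Q ⧸ trI Q σ q

/-- The quotient map. -/
abbrev mkT : MvPolynomial σ Q →ₐ[Q] T Q σ q := Ideal.Quotient.mkₐ Q _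

/-- The coordinates. -/
abbrev xT (i : σ) : T Q σ q := mkT Q σ q (X i)

variable {Q σ q}

theorem mem_trI {f : MvPolynomial σ Q} : f ∈ trI Q σ q ↔ ∀ t : σ →₀ ℕ, (∀ i, t i < q) → coeff t f = 0 :=
  Iff.rfl

theorem Low.of_mem {f : MvPolynomial σ Q} (hf : f ∈ trI Q σ q) (d : ℕ) : Low q d f := fun t ht _ => hf t ht

theorem mkT_eq_iff {f g : MvPolynomial σ Q} :
    mkT Q σ q f = mkT Q σ q g ↔ ∀ t : σ →₀ ℕ, (∀ i, t i < q) → coeff t f = coeff t g := by
  rw [Ideal.Quotient.mkₐ_eq_mk, Ideal.Quotient.mk_eq_mk_iff_sub_mem, mem_trI]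
  simp [sub_eq_zero]

theorem xT_pow (i : σ) : xT Q σ q i ^ q = 0 := by
  classical
  rw [← map_pow, ← map_zero (mkT Q σ q), mkT_eq_iff]
  intro t ht
  rw [coeff_zero, X_pow_eq_monomial, coeff_monomial, if_neg]
  rintro rfl
  have := ht i
  rw [Finsupp.single_eq_same] at this
  omega

theorem aeval_eq_zero_of_mem [Fintype σ] {S : Type u} [CommRing S] [Algebra Q S] (a : σ → S)
    (ha : ∀ i, a i ^ q = 0) {f : MvPolynomial σ Q} (hf : f ∈ trI Q σ q) : aeval a f = 0 := by
  rw [f.as_sum, map_sum]
  refine Finset.sum_eq_zero fun t _ => ?_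
  rw [aeval_monomial]
  by_cases ht : ∀ i, t i < q
  · rw [hf t ht, map_zero, zero_mul]
  · push Not at ht
    obtain ⟨i, hi⟩ := ht
    rw [Finsupp.prod_fintype _ _ (fun i => pow_zero _), Finset.prod_eq_zero (Finset.mem_univ i), mul_zero]
    rw [← Nat.sub_add_cancel hi, pow_add, ha, mul_zero]

/-- Evaluation at elements killed by the `q`-th power. -/
def evT [Fintype σ] {S : Type u} [CommRing S] [Algebra Q S] (a : σ → S) (ha : ∀ i, a i ^ q = 0) :
    T Q σ q →ₐ[Q] S :=
  Ideal.Quotient.liftₐ _ (aeval a) fun _ hf => aeval_eq_zero_of_mem a ha hf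

theorem evT_mk [Fintype σ] {S : Type u} [CommRing S] [Algebra Q S] (a : σ → S) (ha : ∀ i, a i ^ q = 0)
    (f : MvPolynomial σ Q) : evT a ha (mkT Q σ q f) = aeval a f := rfl

theorem T_algHom_ext [Fintype σ] {S : Type u} [CommRing S] [Algebra Q S] {f g : T Q σ q →ₐ[Q] S}
    (h : ∀ i, f (xT Q σ q i) = g (xT Q σ q i)) : f = g :=
  Ideal.Quotient.algHom_ext _ (MvPolynomial.algHom_ext h)

/-- Evaluation at a pair. -/
def ev2 {S : Type u} [CommRing S] [Algebra Q S] (a b : S) (ha : a ^ q = 0) (hb : b ^ q = 0) :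
    T Q (Fin 2) q →ₐ[Q] S :=
  evT ![a, b] (fun i => by fin_cases i; exacts [ha, hb])

theorem ev2_mk {S : Type u} [CommRing S] [Algebra Q S] (a b : S) (ha : a ^ q = 0) (hb : b ^ q = 0)
    (f : MvPolynomial (Fin 2) Q) : ev2 a b ha hb (mkT Q (Fin 2) q f) = at2 a b f := rfl

variable (q) in
/-- Sums of elements killed by the `q`-th power are killed by it. -/
def AddQ (Q : Type u) [CommRing Q] : Prop :=
  ∀ (S : Type u) [CommRing S] [Algebra Q S] (a b : S), a ^ q = 0 → b ^ q = 0 → (a + b) ^ q = 0

/-- The conditions on a truncated cocycle. -/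
structure GoodT (hq : AddQ q Q) (h : T Q (Fin 2) q) : Prop where
  zero : ∀ h0, ev2 (xT Q (Fin 2) q 0) 0 (xT_pow 0) h0 h = 1
  symm : ev2 (xT Q (Fin 2) q 1) (xT Q (Fin 2) q 0) (xT_pow 1) (xT_pow 0) h = h
  coc : ev2 (xT Q (Fin 3) q 1) (xT Q (Fin 3) q 2) (xT_pow 1) (xT_pow 2) h *
      ev2 (xT Q (Fin 3) q 0) (xT Q (Fin 3) q 1 + xT Q (Fin 3) q 2) (xT_pow 0)
        (hq _ _ _ (xT_pow 1) (xT_pow 2)) h =
    ev2 (xT Q (Fin 3) q 0 + xT Q (Fin 3) q 1) (xT Q (Fin 3) q 2) (hq _ _ _ (xT_pow 0) (xT_pow 1)) (xT_pow 2) h *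
      ev2 (xT Q (Fin 3) q 0) (xT Q (Fin 3) q 1) (xT_pow 0) (xT_pow 1) h

theorem GoodT.mul {hq : AddQ q Q} {h h' : T Q (Fin 2) q} (H : GoodT hq h) (H' : GoodT hq h') :
    GoodT hq (h * h') where
  zero h0 := by rw [map_mul, H.zero h0, H'.zero h0, one_mul]
  symm := by rw [map_mul, H.symm, H'.symm]
  coc := by
    simp only [map_mul]
    rw [mul_mul_mul_comm, H.coc, H'.coc, mul_mul_mul_comm]

theorem aeval_unit {f g : Polynomial Q} (hfg : (Polynomial.X : Polynomial Q) ^ q ∣ f * g - 1) {S : Type u}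
    [CommRing S] [Algebra Q S] {a : S} (ha : a ^ q = 0) : Polynomial.aeval a f * Polynomial.aeval a g = 1 := by
  obtain ⟨r, hr⟩ := hfg
  rw [← map_mul, show f * g = Polynomial.X ^ q * r + 1 by rw [← hr, sub_add_cancel], map_add, map_mul, map_pow,
    Polynomial.aeval_X, ha, zero_mul, zero_add, map_one]

theorem ev2_dlt {S : Type u} [CommRing S] [Algebra Q S] (a b : S) (ha : a ^ q = 0) (hb : b ^ q = 0)
    (f g : Polynomial Q) : ev2 a b ha hb (mkT Q (Fin 2) q (dlt f g)) =
      Polynomial.aeval (a + b) f * Polynomial.aeval a g * Polynomial.aeval b g := by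
  rw [ev2_mk, at2_dlt]

theorem coeff_zero_of_dvd {f g : Polynomial Q} (hq0 : q ≠ 0) (hfg : (Polynomial.X : Polynomial Q) ^ q ∣ f * g - 1)
    (h0 : f.coeff 0 = 1) : g.coeff 0 = 1 := by
  obtain ⟨r, hr⟩ := hfg
  have := congrArg (fun e : Polynomial Q => e.coeff 0) hr
  simp only [Polynomial.coeff_sub, Polynomial.mul_coeff_zero, h0, one_mul, Polynomial.coeff_one_zero,
    Polynomial.coeff_X_pow, Ne.symm hq0, if_false, zero_mul] at this
  exact sub_eq_zero.1 this

theorem goodT_dlt (hq : AddQ q Q) (hq0 : q ≠ 0) {f g : Polynomial Q}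
    (hfg : (Polynomial.X : Polynomial Q) ^ q ∣ f * g - 1) (h0 : f.coeff 0 = 1) :
    GoodT hq (mkT Q (Fin 2) q (dlt f g)) where
  zero h0' := by
    rw [ev2_dlt, add_zero, aeval_unit hfg (xT_pow 0), one_mul, ← Polynomial.coeff_zero_eq_aeval_zero',
      coeff_zero_of_dvd hq0 hfg h0, map_one]
  symm := by
    rw [ev2_dlt, dlt, map_mul, map_mul, ← Polynomial.aeval_algHom_apply, ← Polynomial.aeval_algHom_apply,
      ← Polynomial.aeval_algHom_apply, map_add, add_comm (xT Q (Fin 2) q 1)]
    ring
  coc := by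
    simp only [ev2_dlt]
    set F := fun s : T Q (Fin 3) q => Polynomial.aeval s f
    set G := fun s : T Q (Fin 3) q => Polynomial.aeval s g
    set x := xT Q (Fin 3) q 0
    set y := xT Q (Fin 3) q 1
    set z := xT Q (Fin 3) q 2
    have e1 : F (y + z) * G (y + z) = 1 := aeval_unit hfg (hq _ _ _ (xT_pow 1) (xT_pow 2))
    have e2 : F (x + y) * G (x + y) = 1 := aeval_unit hfg (hq _ _ _ (xT_pow 0) (xT_pow 1))
    show F (y + z) * G y * G z * (F (x + (y + z)) * G x * G (y + z)) =
      F (x + y + z) * G (x + y) * G z * (F (x + y) * G x * G y)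
    rw [add_assoc x]
    linear_combination (F (x + (y + z)) * G x * G y * G z) * (e1 - e2)

variable (q) in
/-- The truncated coboundaries. -/
def SolvableT (h : T Q (Fin 2) q) : Prop :=
  ∃ f g : Polynomial Q, (Polynomial.X : Polynomial Q) ^ q ∣ f * g - 1 ∧ f.coeff 0 = 1 ∧
    h = mkT Q (Fin 2) q (dlt f g)

theorem solvableT_one : SolvableT q (1 : T Q (Fin 2) q) :=
  ⟨1, 1, by simp, by simp, by simp [dlt]⟩

theorem SolvableT.mul {h h' : T Q (Fin 2) q} (H : SolvableT q h) (H' : SolvableT q h') : SolvableT q (h * h') := by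
  obtain ⟨f, g, hfg, h0, rfl⟩ := H
  obtain ⟨f', g', hfg', h0', rfl⟩ := H'
  refine ⟨f * f', g * g', ?_, by rw [Polynomial.mul_coeff_zero, h0, h0', one_mul], ?_⟩
  · rw [show f * f' * (g * g') - 1 = (f * g - 1) * (f' * g') + (f' * g' - 1) by ring]
    exact dvd_add (dvd_mul_of_dvd_left hfg _) hfg'
  · rw [← map_mul]
    congr 1
    simp only [dlt, map_mul]
    ring

/-- Polynomials supported on exponents `< q`. -/
def Trc (q : ℕ) (c : MvPolynomial (Fin 2) Q) : Prop := ∀ i j, q ≤ i ∨ q ≤ j → co c i j = 0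

theorem exists_trc (f : MvPolynomial (Fin 2) Q) :
    ∃ c, Trc q c ∧ mkT Q (Fin 2) q c = mkT Q (Fin 2) q f := by
  classical
  refine ⟨∑ s ∈ f.support with ∀ i, s i < q, monomial s (coeff s f), fun i j hij => ?_, mkT_eq_iff.2 fun t ht => ?_⟩
  · rw [co, coeff_sum]
    refine Finset.sum_eq_zero fun s hs => ?_
    rw [coeff_monomial, if_neg]
    rintro rfl
    have h := (Finset.mem_filter.1 hs).2
    have h0 := h 0
    have h1 := h 1
    simp at h0 h1
    omega
  · rw [coeff_sum, Finset.sum_eq_single t]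
    · simp
    · intro s _ hne; rw [coeff_monomial, if_neg hne]
    · intro hns
      rw [coeff_monomial, if_pos rfl]
      by_contra hne
      exact hns (Finset.mem_filter.2 ⟨mem_support_iff.2 hne, ht⟩)

theorem low_two_iff {d : ℕ} {c : MvPolynomial (Fin 2) Q} :
    Low q d c ↔ ∀ i j, i < q → j < q → i + j < d → co c i j = 0 := by
  constructor
  · intro h i j hi hj hij
    refine h _ (fun a => by fin_cases a <;> simpa) ?_
    simpa [map_add, Finsupp.degree_single] using hij
  · intro h t ht htd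
    have e : Finsupp.single 0 (t 0) + Finsupp.single 1 (t 1) = t := by
      ext a; fin_cases a <;> simp
    rw [← e, map_add, Finsupp.degree_single, Finsupp.degree_single] at htd
    rw [← e]
    exact h _ _ (ht 0) (ht 1) htd

theorem mon_at2 (s : Fin 2 →₀ ℕ) (r : Q) {S : Type u} [CommRing S] [Algebra Q S] (a b : S) :
    at2 a b (monomial s r) = algebraMap Q S r * (a ^ s 0 * b ^ s 1) := by
  rw [at2, aeval_monomial, Finsupp.prod_fintype _ _ (fun i => pow_zero _), Fin.prod_univ_two]
  rfl

theorem low_at2 {d : ℕ} {a b : MvPolynomial σ Q} (ha : Low q 1 a) (hb : Low q 1 b) (haq : a ^ q ∈ trI Q σ q)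
    (hbq : b ^ q ∈ trI Q σ q) {c : MvPolynomial (Fin 2) Q} (hc : Low q d c) : Low q d (at2 a b c) := by
  rw [c.as_sum, map_sum]
  intro t ht htd
  rw [coeff_sum]
  refine Finset.sum_eq_zero fun s _ => ?_
  rw [mon_at2, MvPolynomial.algebraMap_eq, coeff_C_mul]
  by_cases hs : s 0 < q ∧ s 1 < q
  · by_cases hd : s 0 + s 1 < d
    · have e : Finsupp.single 0 (s 0) + Finsupp.single 1 (s 1) = s := by
        ext i; fin_cases i <;> simp
      have h0 := low_two_iff.1 hc _ _ hs.1 hs.2 hd
      rw [co, e] at h0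
      rw [h0, zero_mul]
    · rw [((ha.pow (s 0)).mul (hb.pow (s 1))) t ht (by omega), mul_zero]
  · rw [not_and_or, not_lt, not_lt] at hs
    have : a ^ s 0 * b ^ s 1 ∈ trI Q σ q := by
      rcases hs with h | h
      · exact Ideal.mul_mem_right _ _ (Ideal.pow_mem_of_pow_mem _ haq h)
      · exact Ideal.mul_mem_left _ _ (Ideal.pow_mem_of_pow_mem _ hbq h)
    rw [this t ht, mul_zero]

/-- The exponent `(i, j, l)`. -/
def mon3 (i j l : ℕ) : Fin 3 →₀ ℕ := Finsupp.single 0 i + Finsupp.single 1 j + Finsupp.single 2 l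

theorem mon3_apply (i j l : ℕ) : mon3 i j l 0 = i ∧ mon3 i j l 1 = j ∧ mon3 i j l 2 = l :=
  ⟨by simp [mon3], by simp [mon3], by simp [mon3]⟩

theorem coeff_mon3 (i j l a b e : ℕ) :
    coeff (mon3 i j l) ((X 0 : MvPolynomial (Fin 3) Q) ^ a * X 1 ^ b * X 2 ^ e) =
      if a = i ∧ b = j ∧ e = l then 1 else 0 := by
  classical
  rw [X_pow_eq_monomial, X_pow_eq_monomial, X_pow_eq_monomial, monomial_mul, monomial_mul,
    mul_one, mul_one, coeff_monomial]
  refine if_congr ⟨fun h => ?_, fun ⟨h1, h2, h3⟩ => by rw [h1, h2, h3]; rfl⟩ rfl rfl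
  obtain ⟨h0, h1, h2⟩ := mon3_apply i j l
  exact ⟨by simpa [h0] using DFunLike.congr_fun h 0,
    by simpa [h1] using DFunLike.congr_fun h 1, by simpa [h2] using DFunLike.congr_fun h 2⟩

theorem coeff_left (i j l : ℕ) (c : MvPolynomial (Fin 2) Q) :
    coeff (mon3 i j l) (at2 (X 0 + X 1 : MvPolynomial (Fin 3) Q) (X 2) c) =
      ((Nat.choose (i + j) i : ℕ) : Q) * co c (i + j) l := by
  classical
  induction c using MvPolynomial.induction_on' with
  | add x y hx hy => rw [map_add, coeff_add, hx, hy, ← mul_add, co, co, co, coeff_add]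
  | monomial s r =>
    rw [mon_at2, MvPolynomial.algebraMap_eq, coeff_C_mul, add_pow, Finset.sum_mul, coeff_sum]
    have : ∀ m, coeff (mon3 i j l) ((X 0 : MvPolynomial (Fin 3) Q) ^ m * X 1 ^ (s 0 - m) *
        ((Nat.choose (s 0) m : ℕ) : MvPolynomial (Fin 3) Q) * X 2 ^ s 1) =
        (if m = i ∧ s 0 - m = j ∧ s 1 = l then 1 else 0) * ((Nat.choose (s 0) m : ℕ) : Q) := fun m => by
      rw [← coeff_mon3, ← map_natCast (C : Q →+* MvPolynomial (Fin 3) Q), mul_comm _ (C _), mul_assoc,
        coeff_C_mul, mul_comm]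
    rw [Finset.sum_congr rfl fun m _ => this m, co, coeff_monomial]
    by_cases h : s = Finsupp.single 0 (i + j) + Finsupp.single 1 l
    · rw [if_pos h]
      have h0 : s 0 = i + j := by simp [h]
      have h1 : s 1 = l := by simp [h]
      rw [Finset.sum_eq_single i]
      · rw [if_pos ⟨rfl, by omega, h1⟩, one_mul, h0, mul_comm]
      · intro m _ hm; rw [if_neg (fun h' => hm h'.1), zero_mul]
      · intro hm; exact absurd (Finset.mem_range.2 (by omega)) hm
    · rw [if_neg h, mul_zero, Finset.sum_eq_zero, mul_zero]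
      intro m hm
      rw [if_neg, zero_mul]
      rintro ⟨h1, h2, h3⟩
      refine h (Finsupp.ext fun a => ?_)
      have := Finset.mem_range.1 hm
      fin_cases a
      · simp; omega
      · simp [h3]

theorem coeff_right (i j l : ℕ) (c : MvPolynomial (Fin 2) Q) :
    coeff (mon3 i j l) (at2 (X 0 : MvPolynomial (Fin 3) Q) (X 1 + X 2) c) =
      ((Nat.choose (j + l) j : ℕ) : Q) * co c i (j + l) := by
  classical
  induction c using MvPolynomial.induction_on' with
  | add x y hx hy => rw [map_add, coeff_add, hx, hy, ← mul_add, co, co, co, coeff_add]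
  | monomial s r =>
    rw [mon_at2, MvPolynomial.algebraMap_eq, coeff_C_mul, add_pow, Finset.mul_sum, coeff_sum]
    have : ∀ m, coeff (mon3 i j l) ((X 0 : MvPolynomial (Fin 3) Q) ^ s 0 * (X 1 ^ m * X 2 ^ (s 1 - m) *
        ((Nat.choose (s 1) m : ℕ) : MvPolynomial (Fin 3) Q))) =
        (if s 0 = i ∧ m = j ∧ s 1 - m = l then 1 else 0) * ((Nat.choose (s 1) m : ℕ) : Q) := fun m => by
      rw [← coeff_mon3, ← map_natCast (C : Q →+* MvPolynomial (Fin 3) Q), ← mul_assoc, ← mul_assoc,
        mul_comm _ (C _), coeff_C_mul, mul_comm]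
    rw [Finset.sum_congr rfl fun m _ => this m, co, coeff_monomial]
    by_cases h : s = Finsupp.single 0 i + Finsupp.single 1 (j + l)
    · rw [if_pos h]
      have h0 : s 0 = i := by simp [h]
      have h1 : s 1 = j + l := by simp [h]
      rw [Finset.sum_eq_single j]
      · rw [if_pos ⟨h0, rfl, by omega⟩, one_mul, h1, mul_comm]
      · intro m _ hm; rw [if_neg (fun h' => hm h'.2.1), zero_mul]
      · intro hm; exact absurd (Finset.mem_range.2 (by omega)) hm
    · rw [if_neg h, mul_zero, Finset.sum_eq_zero, mul_zero]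
      intro m hm
      rw [if_neg, zero_mul]
      rintro ⟨h1, h2, h3⟩
      refine h (Finsupp.ext fun a => ?_)
      have := Finset.mem_range.1 hm
      fin_cases a
      · simp [h1]
      · simp; omega

theorem coeff_side (i j l : ℕ) (hi : 1 ≤ i) (hl : 1 ≤ l) (c : MvPolynomial (Fin 2) Q) :
    coeff (mon3 i j l) (at2 (X 1 : MvPolynomial (Fin 3) Q) (X 2) c) = 0 ∧
      coeff (mon3 i j l) (at2 (X 0 : MvPolynomial (Fin 3) Q) (X 1) c) = 0 := by
  classical
  constructor <;>
  · induction c using MvPolynomial.induction_on' with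
    | add x y hx hy => rw [map_add, coeff_add, hx, hy, add_zero]
    | monomial s r =>
      rw [mon_at2, MvPolynomial.algebraMap_eq, coeff_C_mul]
      first
        | (rw [← one_mul ((X 1 : MvPolynomial (Fin 3) Q) ^ s 0), ← pow_zero (X 0 : MvPolynomial (Fin 3) Q),
            coeff_mon3, if_neg (by omega), mul_zero])
        | (rw [← mul_one ((X 0 : MvPolynomial (Fin 3) Q) ^ s 0 * X 1 ^ s 1),
            ← pow_zero (X 2 : MvPolynomial (Fin 3) Q), coeff_mon3, if_neg (by omega), mul_zero])

theorem co_zero_right {c : MvPolynomial (Fin 2) Q} (i : ℕ) :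
    coeff (Finsupp.single (0 : Fin 2) i) (at2 (X 0 : MvPolynomial (Fin 2) Q) 0 c) = co c i 0 := by
  classical
  induction c using MvPolynomial.induction_on' with
  | add x y hx hy => rw [map_add, coeff_add, hx, hy, co, co, co, coeff_add]
  | monomial s r =>
    rw [mon_at2, MvPolynomial.algebraMap_eq, coeff_C_mul, co, coeff_monomial]
    by_cases h1 : s 1 = 0
    · rw [h1, pow_zero, mul_one, X_pow_eq_monomial, coeff_monomial, mul_ite, mul_one, mul_zero]
      refine if_congr ⟨fun h => Finsupp.ext fun a => ?_, fun h => ?_⟩ rfl rfl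
      · have h0 := DFunLike.congr_fun h 0
        fin_cases a
        · simpa using h0
        · simpa using h1
      · rw [h]; simp
    · rw [zero_pow h1, mul_zero, coeff_zero, mul_zero, if_neg]
      rintro rfl
      simp at h1

theorem co_swap (c : MvPolynomial (Fin 2) Q) (i j : ℕ) :
    co (at2 (X 1 : MvPolynomial (Fin 2) Q) (X 0) c) i j = co c j i := by
  classical
  induction c using MvPolynomial.induction_on' with
  | add x y hx hy => rw [map_add, co, coeff_add, ← co, ← co, hx, hy, co, co, co, coeff_add]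
  | monomial s r =>
    rw [mon_at2, MvPolynomial.algebraMap_eq, mul_comm (X 1 ^ s 0 : MvPolynomial (Fin 2) Q), ← mul_assoc, co_monomial,
      co, coeff_monomial]
    refine if_congr ⟨fun ⟨h1, h2⟩ => Finsupp.ext fun a => ?_, fun h => ?_⟩ rfl rfl
    · fin_cases a <;> simp [h1, h2]
    · exact ⟨by simp [h], by simp [h]⟩

section Char

variable {p : ℕ} [hp : Fact p.Prime] (ι : ZMod p →+* Q) {n : ℕ}

include ι in
theorem addQ : AddQ (p ^ n) Q := by
  intro S _ _ a b ha hb
  obtain ⟨r, hr⟩ := exists_add_pow_prime_pow_eq hp.out a b n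
  have hp0 : (p : S) = 0 := by
    rw [← map_natCast ((algebraMap Q S).comp ι), ZMod.natCast_self, map_zero]
  rw [hr, ha, hb, hp0, zero_mul, zero_mul, zero_mul, add_zero, add_zero]

local notation "qq" => p ^ n

theorem mkT_at2 {σ : Type} (a b : MvPolynomial σ Q) (ha : (mkT Q σ qq a) ^ qq = 0)
    (hb : (mkT Q σ qq b) ^ qq = 0) (f : MvPolynomial (Fin 2) Q) :
    ev2 (mkT Q σ qq a) (mkT Q σ qq b) ha hb (mkT Q (Fin 2) qq f) = mkT Q σ qq (at2 a b f) := by
  rw [ev2_mk, at2, at2, ← AlgHom.comp_apply (mkT Q σ qq), comp_aeval]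
  congr 2
  ext i; fin_cases i <;> rfl

/-- The lowest component of a truncated cocycle is an additive cocycle. -/
theorem GoodT.cocycle {d : ℕ} (hd : 0 < d) {c : MvPolynomial (Fin 2) Q} (hc : Low qq d c) (htr : Trc qq c)
    (H : GoodT (addQ ι) (1 + mkT Q (Fin 2) qq c)) :
    (letI := ι.toModule; IsCocycle (p := p) d fun i => co c i (d - i)) ∧ co c d 0 = 0 ∧ co c 0 d = 0 := by
  classical
  have hz : mkT Q (Fin 2) qq (at2 (X 0 : MvPolynomial (Fin 2) Q) 0 c) = 0 := by
    have h00 : (mkT Q (Fin 2) qq (0 : MvPolynomial (Fin 2) Q)) ^ qq = 0 := by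
      rw [map_zero, zero_pow (pow_ne_zero _ hp.out.ne_zero)]
    have h := H.zero (zero_pow (pow_ne_zero _ hp.out.ne_zero))
    rw [map_add, map_one, add_eq_left] at h
    rw [← h, ← mkT_at2 _ _ (xT_pow 0) h00]
    simp only [ev2_mk, map_zero]
  have hs : mkT Q (Fin 2) qq (at2 (X 1 : MvPolynomial (Fin 2) Q) (X 0) c) = mkT Q (Fin 2) qq c := by
    have h := H.symm
    rw [map_add, map_one, add_right_inj] at h
    rw [← mkT_at2 _ _ (xT_pow 1) (xT_pow 0)]
    exact h
  have hsymm : ∀ i j, i + j = d → co c j i = co c i j := by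
    intro i j _
    by_cases hi : i < qq ∧ j < qq
    · have := mkT_eq_iff.1 hs (Finsupp.single 0 i + Finsupp.single 1 j)
        (fun a => by fin_cases a <;> simp [hi.1, hi.2])
      exact (co_swap c i j).symm.trans this
    · rw [not_and_or, not_lt, not_lt] at hi
      rw [htr i j hi, htr j i hi.symm]
  have hzero : co c d 0 = 0 := by
    by_cases h : d < qq
    · have := mkT_eq_iff.1 (hz.trans (map_zero (mkT Q (Fin 2) qq)).symm) (Finsupp.single 0 d)
        (fun a => by fin_cases a <;> simp [h, hp.out.pos])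
      rwa [co_zero_right, coeff_zero] at this
    · exact htr _ _ (Or.inl (not_lt.1 h))
  have hadd : mkT Q (Fin 3) qq
      (at2 (X 1 : MvPolynomial (Fin 3) Q) (X 2) c + at2 (X 0 : MvPolynomial (Fin 3) Q) (X 1 + X 2) c +
        at2 (X 1 : MvPolynomial (Fin 3) Q) (X 2) c * at2 (X 0 : MvPolynomial (Fin 3) Q) (X 1 + X 2) c) =
      mkT Q (Fin 3) qq
      (at2 (X 0 + X 1 : MvPolynomial (Fin 3) Q) (X 2) c + at2 (X 0 : MvPolynomial (Fin 3) Q) (X 1) c +
        at2 (X 0 + X 1 : MvPolynomial (Fin 3) Q) (X 2) c * at2 (X 0 : MvPolynomial (Fin 3) Q) (X 1) c) := by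
    have h := H.coc
    simp only [map_add, map_one, map_mul]
    rw [← mkT_at2 _ _ (xT_pow 1) (xT_pow 2), ← mkT_at2 _ _ (xT_pow 0) (xT_pow 1),
      ← mkT_at2 _ _ (xT_pow 0) (by rw [map_add]; exact addQ ι _ _ _ (xT_pow 1) (xT_pow 2)),
      ← mkT_at2 _ _ (by rw [map_add]; exact addQ ι _ _ _ (xT_pow 0) (xT_pow 1)) (xT_pow 2)]
    simp only [map_add, map_one] at h ⊢
    linear_combination h
  have hX1 : ∀ i : Fin 3, Low qq 1 (X i : MvPolynomial (Fin 3) Q) := fun i => low_one (by simp)
  have hXq : ∀ i : Fin 3, (X i : MvPolynomial (Fin 3) Q) ^ qq ∈ trI Q (Fin 3) qq := fun i =>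
    Ideal.Quotient.eq_zero_iff_mem.1 ((map_pow (Ideal.Quotient.mk _) _ _).trans (xT_pow i))
  have hXXq : ∀ i j : Fin 3, (X i + X j : MvPolynomial (Fin 3) Q) ^ qq ∈ trI Q (Fin 3) qq := fun i j =>
    Ideal.Quotient.eq_zero_iff_mem.1 ((map_pow (Ideal.Quotient.mk _) _ _).trans
      (by rw [map_add]; exact addQ ι _ _ _ (xT_pow i) (xT_pow j)))
  have hrel : ∀ i j l, 1 ≤ i → 1 ≤ j → 1 ≤ l → i + j + l = d →
      ((Nat.choose (i + j) i : ℕ) : Q) * co c (i + j) l = ((Nat.choose (j + l) j : ℕ) : Q) * co c i (j + l) := by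
    intro i j l hi hj hl hd'
    by_cases hlt : i < qq ∧ j < qq ∧ l < qq
    · have h := mkT_eq_iff.1 hadd (mon3 i j l) (fun a => by
        obtain ⟨h0, h1, h2⟩ := mon3_apply i j l
        fin_cases a
        · exact h0.symm ▸ hlt.1
        · exact h1.symm ▸ hlt.2.1
        · exact h2.symm ▸ hlt.2.2)
      have hm : ∀ a b a' b' : MvPolynomial (Fin 3) Q, Low qq 1 a → Low qq 1 b → a ^ qq ∈ trI Q (Fin 3) qq →
          b ^ qq ∈ trI Q (Fin 3) qq → Low qq 1 a' → Low qq 1 b' → a' ^ qq ∈ trI Q (Fin 3) qq →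
          b' ^ qq ∈ trI Q (Fin 3) qq → coeff (mon3 i j l) (at2 a b c * at2 a' b' c) = 0 := by
        intro a b a' b' h1 h2 h3 h4 h5 h6 h7 h8
        refine ((low_at2 h1 h2 h3 h4 hc).mul (low_at2 h5 h6 h7 h8 hc)) _ (fun x => ?_) ?_
        · obtain ⟨e0, e1, e2⟩ := mon3_apply i j l
          fin_cases x
          · exact e0.symm ▸ hlt.1
          · exact e1.symm ▸ hlt.2.1
          · exact e2.symm ▸ hlt.2.2
        · simp only [mon3, map_add, Finsupp.degree_single]
          omega
      rw [coeff_add, coeff_add, coeff_add, coeff_add,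
        hm _ _ _ _ (hX1 1) (hX1 2) (hXq 1) (hXq 2) (hX1 0) ((hX1 1).add (hX1 2)) (hXq 0) (hXXq 1 2),
        hm _ _ _ _ ((hX1 0).add (hX1 1)) (hX1 2) (hXXq 0 1) (hXq 2) (hX1 0) (hX1 1) (hXq 0) (hXq 1),
        (coeff_side i j l hi hl c).1, (coeff_side i j l hi hl c).2, coeff_left, coeff_right] at h
      simpa using h.symm
    · simp only [not_and_or, not_lt] at hlt
      rcases hlt with h | h | h
      · rw [htr (i + j) l (Or.inl (by omega)), htr i (j + l) (Or.inl h), mul_zero, mul_zero]
      · rw [htr (i + j) l (Or.inl (by omega)), htr i (j + l) (Or.inr (by omega)), mul_zero, mul_zero]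
      · rw [htr (i + j) l (Or.inr h), htr i (j + l) (Or.inr (by omega)), mul_zero, mul_zero]
  refine ⟨?_, hzero, by rw [← hsymm 0 d (zero_add d), hzero]⟩
  letI := ι.toModule
  refine ⟨fun i j hi hj hij => ?_, fun i hi hid => ?_⟩
  · show ι _ * co c (i + j) (d - (i + j)) = ι _ * co c i (d - i)
    rw [map_natCast, map_natCast]
    have := hrel i j (d - (i + j)) hi hj (by omega) (by omega)
    rwa [show j + (d - (i + j)) = d - i by omega] at this
  · show co c (d - i) (d - (d - i)) = co c i (d - i)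
    rw [show d - (d - i) = i by omega]
    exact hsymm i (d - i) (by omega)

/-- A polynomial inverse modulo `X ^ q` close to a given approximate one. -/
theorem exists_inv_trunc {f g : Polynomial Q} {m : ℕ} (hm : 0 < m) (q : ℕ)
    (h : (Polynomial.X : Polynomial Q) ^ m ∣ f * g - 1) :
    ∃ g', (Polynomial.X : Polynomial Q) ^ q ∣ f * g' - 1 ∧ (Polynomial.X : Polynomial Q) ^ m ∣ g' - g := by
  obtain ⟨r, hr⟩ := h
  refine ⟨g * ∑ l ∈ Finset.range (q + 1), (1 - f * g) ^ l, ?_, ?_⟩
  · have h := mul_neg_geom_sum (1 - f * g) (q + 1)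
    rw [sub_sub_cancel] at h
    rw [← mul_assoc, h]
    refine ⟨-(Polynomial.X ^ (m * (q + 1) - q) * (-r) ^ (q + 1)), ?_⟩
    rw [show 1 - f * g = Polynomial.X ^ m * (-r) by linear_combination -hr, mul_pow, ← pow_mul]
    have : q ≤ m * (q + 1) := le_trans (Nat.le_succ q) (Nat.le_mul_of_pos_left _ hm)
    rw [mul_neg, ← mul_assoc, ← pow_add, Nat.add_sub_cancel' this]
    ring
  · rw [Finset.sum_range_succ', pow_zero, mul_add, mul_one, add_sub_cancel_right]
    refine dvd_mul_of_dvd_right (Finset.dvd_sum fun l _ => ?_) _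
    rw [pow_succ, show 1 - f * g = -(f * g - 1) by ring, hr]
    exact dvd_mul_of_dvd_right (dvd_neg.2 (dvd_mul_right _ _)) _

omit hp in
theorem low_aeval {σ : Type} {x : MvPolynomial σ Q} (hx : Low q 1 x) {m : ℕ} {g : Polynomial Q}
    (hg : (Polynomial.X : Polynomial Q) ^ m ∣ g) : Low q m (Polynomial.aeval x g) := by
  obtain ⟨r, rfl⟩ := hg
  rw [map_mul, map_pow, Polynomial.aeval_X]
  exact ((hx.pow m).mono (by omega)).mul_right _

theorem dlt_change {d : ℕ} {f g g' : Polynomial Q} (hg : (Polynomial.X : Polynomial Q) ^ d ∣ g' - g) :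
    Low qq d (dlt f g' - dlt f g) := by
  have h0 : Low qq 1 (X 0 : MvPolynomial (Fin 2) Q) := low_one (by simp)
  have h1 : Low qq 1 (X 1 : MvPolynomial (Fin 2) Q) := low_one (by simp)
  set F := Polynomial.aeval (X 0 + X 1 : MvPolynomial (Fin 2) Q) f
  have e : dlt f g' - dlt f g =
      Polynomial.aeval (X 0 : MvPolynomial (Fin 2) Q) (g' - g) * (F * Polynomial.aeval (X 1 : MvPolynomial (Fin 2) Q) g') +
      Polynomial.aeval (X 1 : MvPolynomial (Fin 2) Q) (g' - g) * (F * Polynomial.aeval (X 0 : MvPolynomial (Fin 2) Q) g) := by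
    simp only [dlt, map_sub, F]
    ring
  rw [e]
  exact ((low_aeval h0 hg).mul_right _).add ((low_aeval h1 hg).mul_right _)

theorem sub2_monomial (b : Q) (P : ℕ) (s : Fin 2 →₀ ℕ) (r : ZMod p) :
    sub2 ι b P (monomial s r) = C (b ^ (s 0 + s 1) * ι r) * X 0 ^ (P * s 0) * X 1 ^ (P * s 1) := by
  rw [sub2, coe_eval₂Hom, eval₂_monomial, Finsupp.prod_fintype _ _ (fun i => pow_zero _), Fin.prod_univ_two,
    RingHom.comp_apply, mul_pow, mul_pow, ← map_pow, ← map_pow, ← pow_mul, ← pow_mul, map_mul, pow_add, map_mul]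
  ring

theorem coT_sub2 (b : Q) {P : ℕ} (hP : 0 < P) (W : MvPolynomial (Fin 2) (ZMod p)) :
    (∀ i j, co (sub2 ι b P W) (P * i) (P * j) = b ^ (i + j) * ι (co W i j)) ∧
    ∀ d, (∀ i j, i + j < d → co W i j = 0) → ∀ a c, a + c < P * d → co (sub2 ι b P W) a c = 0 := by
  classical
  have key : ∀ a c, co (sub2 ι b P W) a c = ∑ s ∈ W.support,
      if P * s 0 = a ∧ P * s 1 = c then b ^ (s 0 + s 1) * ι (coeff s W) else 0 := fun a c => by
    conv_lhs => rw [W.as_sum, map_sum, co, coeff_sum]
    refine Finset.sum_congr rfl fun s _ => ?_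
    rw [sub2_monomial]
    exact co_monomial _ _ _ _ _
  constructor
  · intro i j
    rw [key, Finset.sum_eq_single (Finsupp.single 0 i + Finsupp.single 1 j)]
    · simp [co]
    · intro s _ hne
      refine if_neg fun ⟨h0, h1⟩ => hne (Finsupp.ext fun a => ?_)
      have e0 := Nat.eq_of_mul_eq_mul_left hP h0
      have e1 := Nat.eq_of_mul_eq_mul_left hP h1
      fin_cases a <;> simp [e0, e1]
    · intro hns
      simp [notMem_support_iff.1 hns]
  · intro d hd a c hac
    rw [key]
    refine Finset.sum_eq_zero fun s _ => ?_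
    split_ifs with h
    · have hlt : s 0 + s 1 < d := Nat.lt_of_mul_lt_mul_left (by rw [mul_add]; omega : P * (s 0 + s 1) < P * d)
      have e : Finsupp.single 0 (s 0) + Finsupp.single 1 (s 1) = s := by ext x; fin_cases x <;> simp
      have := hd _ _ hlt
      rw [co, e] at this
      rw [this, map_zero ι, mul_zero]
    · rfl

include ι in
/-- Truncated cocycles are coboundaries when all elements are `p`-th powers. -/
theorem solvableT (hF : ∀ a : Q, ∃ b, b ^ p = a) {h : T Q (Fin 2) qq} (H : GoodT (addQ ι) h) :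
    SolvableT qq h := by
  classical
  have hq0 : qq ≠ 0 := pow_ne_zero _ hp.out.ne_zero
  suffices main : ∀ k d, 2 * qq ≤ d + k → 0 < d → ∀ c, Low qq d c → Trc qq c →
      GoodT (addQ ι) (1 + mkT Q (Fin 2) qq c) → SolvableT qq (1 + mkT Q (Fin 2) qq c) by
    obtain ⟨f, rfl⟩ := Ideal.Quotient.mk_surjective h
    obtain ⟨c, hc, hcf⟩ := exists_trc (q := qq) (f - 1)
    have hh : (Ideal.Quotient.mk _ f : T Q (Fin 2) qq) = 1 + mkT Q (Fin 2) qq c := by
      rw [hcf, map_sub, map_one, add_sub_cancel]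
      rfl
    rw [hh] at H ⊢
    refine main (2 * qq) 1 (by omega) one_pos c (low_one ?_) hc H
    have h00 : (mkT Q (Fin 2) qq (0 : MvPolynomial (Fin 2) Q)) ^ qq = 0 := by rw [map_zero, zero_pow hq0]
    have hz := H.zero (zero_pow hq0)
    rw [map_add, map_one, add_eq_left] at hz
    have hz' : mkT Q (Fin 2) qq (at2 (X 0 : MvPolynomial (Fin 2) Q) 0 c) = mkT Q (Fin 2) qq 0 := by
      rw [map_zero, ← hz, ← mkT_at2 _ _ (xT_pow 0) h00]
      simp only [ev2_mk, map_zero]
    have := mkT_eq_iff.1 hz' (Finsupp.single 0 0) (fun a => by simp [hp.out.pos])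
    rw [co_zero_right, coeff_zero, co] at this
    simpa using this
  intro k
  induction k with
  | zero =>
    intro d hd _ c hc htr _
    have : mkT Q (Fin 2) qq c = mkT Q (Fin 2) qq 0 := mkT_eq_iff.2 fun t ht => by
      rw [coeff_zero]
      refine hc t ht ?_
      have e : Finsupp.single 0 (t 0) + Finsupp.single 1 (t 1) = t := by ext a; fin_cases a <;> simp
      rw [← e, map_add, Finsupp.degree_single, Finsupp.degree_single]
      have := ht 0
      have := ht 1
      omega
    rw [this, map_zero, add_zero]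
    exact solvableT_one
  | succ k ih =>
    intro d hd hd0 c hc htr hgood
    letI := ι.toModule
    obtain ⟨hco, hcd, hc0⟩ := hgood.cocycle ι hd0 hc htr
    -- it suffices to kill the component of degree `d`
    suffices hex : ∃ f g : Polynomial Q, (Polynomial.X : Polynomial Q) ^ qq ∣ f * g - 1 ∧ f.coeff 0 = 1 ∧
        ∃ e, mkT Q (Fin 2) qq (dlt f g) = 1 + mkT Q (Fin 2) qq e ∧ Low qq (d + 1) (c - e) by
      obtain ⟨f, g, hfg, hf0, e, hu, hce⟩ := hex
      have hgf : (Polynomial.X : Polynomial Q) ^ qq ∣ g * f - 1 := by rwa [mul_comm]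
      have hg0 := coeff_zero_of_dvd hq0 hfg hf0
      have huv : mkT Q (Fin 2) qq (dlt f g) * mkT Q (Fin 2) qq (dlt g f) = 1 := by
        have a0 := xT_pow (Q := Q) (q := qq) (0 : Fin 2)
        have a1 := xT_pow (Q := Q) (q := qq) (1 : Fin 2)
        have e01 := aeval_unit hfg (addQ ι _ _ _ a0 a1)
        have e0 := aeval_unit hfg a0
        have e1 := aeval_unit hfg a1
        simp only [dlt, map_mul, ← Polynomial.aeval_algHom_apply, map_add]
        calc _ = (Polynomial.aeval (xT Q (Fin 2) qq 0 + xT Q (Fin 2) qq 1) f *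
                Polynomial.aeval (xT Q (Fin 2) qq 0 + xT Q (Fin 2) qq 1) g) *
              (Polynomial.aeval (xT Q (Fin 2) qq 0) f * Polynomial.aeval (xT Q (Fin 2) qq 0) g) *
              (Polynomial.aeval (xT Q (Fin 2) qq 1) f * Polynomial.aeval (xT Q (Fin 2) qq 1) g) := by ring
          _ = 1 := by rw [e01, e0, e1, one_mul, one_mul]
      obtain ⟨c', htr', hc'⟩ := exists_trc (q := qq) ((c - e) * dlt g f)
      have key : (1 + mkT Q (Fin 2) qq c) * mkT Q (Fin 2) qq (dlt g f) = 1 + mkT Q (Fin 2) qq c' := by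
        rw [hc', map_mul, map_sub]
        linear_combination huv - mkT Q (Fin 2) qq (dlt g f) * hu
      have hlow : Low qq (d + 1) c' := fun t ht htd => by
        rw [mkT_eq_iff.1 hc' t ht]
        exact hce.mul_right _ t ht htd
      have hrec := ih (d + 1) (by omega) (by omega) c' hlow htr'
        (key ▸ hgood.mul (goodT_dlt _ hq0 hgf hg0))
      have := (show SolvableT qq (mkT Q (Fin 2) qq (dlt f g)) from ⟨f, g, hfg, hf0, rfl⟩).mul hrec
      rw [← key] at this
      rwa [mul_left_comm, huv, mul_one] at this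
    have hsmul : ∀ (z : ZMod p) (x : Q), z • x = ι z * x := fun _ _ => rfl
    -- nothing to kill when the degree `d` component vanishes
    have trivial_case : (∀ i, 1 ≤ i → i < d → co c i (d - i) = 0) → ∃ f g : Polynomial Q,
        (Polynomial.X : Polynomial Q) ^ qq ∣ f * g - 1 ∧ f.coeff 0 = 1 ∧
          ∃ e, mkT Q (Fin 2) qq (dlt f g) = 1 + mkT Q (Fin 2) qq e ∧ Low qq (d + 1) (c - e) := by
      intro hz
      refine ⟨1, 1, by simp, by simp, 0, by simp [dlt], ?_⟩
      rw [sub_zero, low_two_iff]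
      intro i j hi hj hij
      by_cases hlt : i + j < d
      · exact low_two_iff.1 hc i j hi hj hlt
      have hj' : j = d - i := by omega
      rcases Nat.eq_zero_or_pos i with rfl | hi0
      · rw [show j = d by omega]; exact hc0
      rcases Nat.eq_zero_or_pos j with rfl | hj0
      · rw [show i = d by omega]; exact hcd
      rw [hj']
      exact hz i hi0 (by omega)
    by_cases hpow : ∃ v, d = p ^ v
    · obtain ⟨v, rfl⟩ := hpow
      rcases v with _ | v
      · exact trivial_case fun i h1 h2 => by rw [pow_zero] at h2; omega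
      by_cases hvn : n < v + 1
      · refine trivial_case fun i h1 h2 => htr _ _ ?_
        have : p ^ n * 2 ≤ p ^ (v + 1) :=
          le_trans (Nat.mul_le_mul_left _ hp.out.two_le) (by rw [← pow_succ]; exact Nat.pow_le_pow_right hp.out.pos hvn)
        omega
      set P := p ^ v
      have hd' : p ^ (v + 1) = P * p := pow_succ p v
      have hP : 0 < P := pow_pos hp.out.pos v
      have hdq : p ^ (v + 1) ≤ qq := Nat.pow_le_pow_right hp.out.pos (by omega)
      obtain ⟨hU0, hUlow, hU1⟩ := co_universal (p := p)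
      set z := co (dlt (tExp p) (tInv p)) 1 (p - 1)
      obtain ⟨b, hb⟩ := hF (ι z⁻¹ * co c P (p ^ (v + 1) - P))
      let f := sub1 ι b P (tExp p)
      let g₁ := sub1 ι b P (tInv p)
      have hfg₁ : (Polynomial.X : Polynomial Q) ^ (2 * p ^ (v + 1)) ∣ f * g₁ - 1 := by
        have h := map_dvd (sub1 ι b P) (X_pow_dvd_tExp_mul_tInv (p := p))
        rw [map_sub, map_one, map_mul, map_pow] at h
        have hX : sub1 ι b P Polynomial.X = Polynomial.C b * Polynomial.X ^ P := by simp [sub1]
        rw [hX, mul_pow, ← pow_mul, show P * (2 * p) = 2 * p ^ (v + 1) by rw [hd']; ring] at h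
        exact (dvd_sub_comm).1 (dvd_trans (dvd_mul_left _ _) h)
      obtain ⟨g, hfg, hg⟩ := exists_inv_trunc (f := f) (g := g₁) (m := 2 * p ^ (v + 1))
        (by positivity) qq hfg₁
      have hf0 : f.coeff 0 = 1 := by
        have h1 : (tExp p).coeff 0 = 1 := by rw [coeff_tExp, if_pos hp.out.pos]; simp
        simp only [f, sub1, Polynomial.coe_eval₂RingHom]
        rw [Polynomial.coeff_zero_eq_eval_zero, Polynomial.eval_eq_sum]
        rw [← Polynomial.eval_eq_sum, ← Polynomial.coe_evalRingHom, Polynomial.hom_eval₂]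
        rw [Polynomial.coe_evalRingHom, Polynomial.eval_mul, Polynomial.eval_pow, Polynomial.eval_X, zero_pow hP.ne',
          mul_zero, Polynomial.eval₂_at_zero, h1, map_one]
      set W := sub2 ι b P (dlt (tExp p) (tInv p))
      have hW : W = dlt f g₁ := sub2_dlt ι b v _ _
      have hWlow : ∀ i j, i < qq → j < qq → i + j < p ^ (v + 1) → co (W - 1) i j = 0 := by
        intro i j _ _ hij
        have h := (coT_sub2 ι b hP (dlt (tExp p) (tInv p) - 1)).2 p (fun a c' hac => by
          rw [co_sub]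
          by_cases h0 : a + c' = 0
          · obtain ⟨rfl, rfl⟩ : a = 0 ∧ c' = 0 := by omega
            rw [hU0]
            simp [co]
          · rw [hUlow a c' h0 hac, zero_sub, neg_eq_zero, co, coeff_one, if_neg]
            intro h
            have h0' := DFunLike.congr_fun h 0
            have h1' := DFunLike.congr_fun h 1
            simp at h0' h1'
            omega) i j (by rw [← hd']; exact hij)
        rwa [map_sub, map_one] at h
      obtain ⟨e, htre, he⟩ := exists_trc (q := qq) (dlt f g - 1)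
      have hu : mkT Q (Fin 2) qq (dlt f g) = 1 + mkT Q (Fin 2) qq e := by
        rw [he, map_sub, map_one, add_sub_cancel]
      have hchange := dlt_change (p := p) (n := n) (f := f) hg
      have heW : ∀ i j, i < qq → j < qq → i + j ≤ p ^ (v + 1) → co e i j = co (W - 1) i j := by
        intro i j hi hj hij
        have h1 := mkT_eq_iff.1 he (Finsupp.single 0 i + Finsupp.single 1 j) (fun a => by fin_cases a <;> simp [hi, hj])
        have h2 := low_two_iff.1 hchange i j hi hj (by omega)
        rw [co_sub] at h2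
        show coeff _ e = _
        rw [h1, ← co, co_sub, co_sub, hW]
        rw [sub_eq_zero] at h2
        rw [h2]
      have hlowe : Low qq (p ^ (v + 1)) e := low_two_iff.2 fun i j hi hj hij => by
        rw [heW i j hi hj hij.le]; exact hWlow i j hi hj hij
      obtain ⟨heco, hed, he0⟩ := (hu ▸ goodT_dlt (addQ ι) hq0 hfg hf0 : GoodT (addQ ι) (1 + mkT Q (Fin 2) qq e)).cocycle
        ι hd0 hlowe htre
      have hval : co e P (p ^ (v + 1) - P) = co c P (p ^ (v + 1) - P) := by
        have hlt : P < p ^ (v + 1) := by rw [hd']; exact lt_mul_of_one_lt_right hP hp.out.one_lt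
        have hsub : p ^ (v + 1) - P = P * (p - 1) := by rw [hd', Nat.mul_sub, mul_one]
        rw [heW P _ (by omega) (by omega) (by omega), hsub, co_sub]
        have h := (coT_sub2 ι b hP (dlt (tExp p) (tInv p))).1 1 (p - 1)
        rw [mul_one] at h
        rw [h, show 1 + (p - 1) = p by have := hp.out.one_le; omega, hb]
        have h1 : co (1 : MvPolynomial (Fin 2) Q) P (P * (p - 1)) = 0 := by
          rw [co, coeff_one, if_neg]
          intro h
          have := DFunLike.congr_fun h 0
          simp at this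
          omega
        rw [h1, sub_zero, ← hsub, mul_right_comm, ← map_mul, inv_mul_cancel₀ hU1, map_one, one_mul]
      refine ⟨f, g, hfg, hf0, e, hu, low_two_iff.2 fun i j hi hj hij => ?_⟩
      rw [co_sub]
      by_cases hlt : i + j < p ^ (v + 1)
      · rw [low_two_iff.1 hc i j hi hj hlt, low_two_iff.1 hlowe i j hi hj hlt, sub_zero]
      rcases Nat.eq_zero_or_pos i with rfl | hi0
      · rw [show j = p ^ (v + 1) by omega, hc0, he0, sub_zero]
      rcases Nat.eq_zero_or_pos j with rfl | hj0
      · rw [show i = p ^ (v + 1) by omega, hcd, hed, sub_zero]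
      have h := (hco.sub heco)
      rw [pow_succ] at h
      have := h.eq_zero hp.out.two_le (Or.inr rfl)
        (by rw [← pow_succ]; show co c P _ - co e P _ = 0; rw [hval, sub_self]) i hi0 (by rw [← pow_succ]; omega)
      rw [← pow_succ] at this
      rwa [show j = p ^ (v + 1) - i by omega]
    · push Not at hpow
      obtain ⟨v, t, hdt, ht, hφ⟩ := hco.exists_coboundary (by omega) hpow
      have hφ' : ∀ i, 1 ≤ i → i < d →
          co c i (d - i) = ((Nat.choose d i : ℕ) : Q) * (ι ((t : ZMod p)⁻¹) * co c (p ^ v) (d - p ^ v)) :=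
        fun i h1 h2 => by
          rw [← map_natCast ι (Nat.choose d i)]
          exact hφ i h1 h2
      by_cases hdq : qq < d
      · refine trivial_case fun i h1 h2 => ?_
        have hbig : qq ≤ d - p ^ v := by
          by_cases hvn : n ≤ v
          · rw [hdt]
            have : qq ≤ p ^ v := Nat.pow_le_pow_right hp.out.pos hvn
            have h2' : p ^ v * 2 ≤ p ^ v * t := Nat.mul_le_mul_left _ ht
            omega
          · obtain ⟨w, rfl⟩ : ∃ w, n = v + w := ⟨n - v, by omega⟩
            rw [hdt, pow_add] at hdq ⊢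
            have hwt := Nat.lt_of_mul_lt_mul_left hdq
            have : p ^ v * (p ^ w + 1) ≤ p ^ v * t := Nat.mul_le_mul_left _ hwt
            rw [mul_add, mul_one] at this
            omega
        rw [hφ' i h1 h2, htr _ _ (Or.inr hbig), mul_zero, mul_zero]
      · have hdlt : d < qq := lt_of_le_of_ne (not_lt.1 hdq) (hpow n)
        set a := ι ((t : ZMod p)⁻¹) * co c (p ^ v) (d - p ^ v)
        let g₁ : Polynomial Q := 1 - Polynomial.C a * Polynomial.X ^ d
        let f : Polynomial Q := 1 + Polynomial.C a * Polynomial.X ^ d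
        have hfg₁ : (Polynomial.X : Polynomial Q) ^ (2 * d) ∣ f * g₁ - 1 :=
          ⟨-(Polynomial.C a * Polynomial.C a), by simp only [f, g₁]; rw [two_mul, pow_add]; ring⟩
        obtain ⟨g, hfg, hg⟩ := exists_inv_trunc (f := f) (g := g₁) (by omega) qq hfg₁
        have hf0 : f.coeff 0 = 1 := by simp [f, Polynomial.coeff_X_pow, (show (0 : ℕ) ≠ d by omega)]
        refine ⟨f, g, hfg, hf0, dlt f g - 1, by rw [map_sub, map_one, add_sub_cancel], ?_⟩
        have h0 : Low qq 1 (X 0 : MvPolynomial (Fin 2) Q) := low_one (by simp)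
        have h1 : Low qq 1 (X 1 : MvPolynomial (Fin 2) Q) := low_one (by simp)
        have hch : Low qq (d + 1) (dlt f g - dlt f g₁) := (dlt_change hg).mono (by omega)
        set S := C a * (X 0 + X 1 : MvPolynomial (Fin 2) Q) ^ d
        set U := C a * (X 0 : MvPolynomial (Fin 2) Q) ^ d
        set V := C a * (X 1 : MvPolynomial (Fin 2) Q) ^ d
        have hL : ∀ x : MvPolynomial (Fin 2) Q, Low qq 1 x → Low qq d (C a * x ^ d) := fun x hx => by
          rw [mul_comm]; exact ((hx.pow d).mono (by omega)).mul_right _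
        have hlin : Low qq (d + 1) (dlt f g₁ - 1 - C a * delta d) := by
          have e : dlt f g₁ - 1 - C a * delta d = U * V - S * U - S * V + S * U * V := by
            simp only [dlt, delta, f, g₁, map_add, map_sub, map_one, map_mul, map_pow, Polynomial.aeval_C,
              Polynomial.aeval_X, MvPolynomial.algebraMap_eq, S, U, V]
            ring
          rw [e]
          have hS := hL _ (h0.add h1)
          have hU := hL _ h0
          have hV := hL _ h1
          exact ((((hU.mul hV).sub (hS.mul hU)).sub (hS.mul hV)).add ((hS.mul hU).mul_right V)).mono (by omega)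
        have main' : Low qq (d + 1) (c - C a * delta d) := low_two_iff.2 fun i j hi hj hij => by
          have hCd : Low qq d (C a * delta d) := by
            rw [delta, mul_sub, mul_sub]
            exact ((hL _ (h0.add h1)).sub (hL _ h0)).sub (hL _ h1)
          rw [co_sub]
          by_cases hlt : i + j < d
          · rw [low_two_iff.1 hc i j hi hj hlt, low_two_iff.1 hCd i j hi hj hlt, sub_zero]
          rcases Nat.eq_zero_or_pos i with rfl | hi0
          · rw [show j = d by omega, hc0, co_C_mul]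
            have : co (delta d : MvPolynomial (Fin 2) Q) 0 d = 0 := by
              have e1 : co ((X 0 : MvPolynomial (Fin 2) Q) ^ d) 0 d = 0 := by
                have := co_monomial (1 : Q) d 0 0 d
                rw [map_one, one_mul, pow_zero, mul_one, if_neg (by omega)] at this
                exact this
              have e2 : co ((X 1 : MvPolynomial (Fin 2) Q) ^ d) 0 d = 1 := by
                have := co_monomial (1 : Q) 0 d 0 d
                rw [map_one, one_mul, pow_zero, one_mul, if_pos ⟨rfl, rfl⟩] at this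
                exact this
              rw [delta, co_sub, co_sub, co_add_pow, e1, e2, if_pos (zero_add d)]
              simp
            rw [this, mul_zero, sub_zero]
          rcases Nat.eq_zero_or_pos j with rfl | hj0
          · rw [show i = d by omega, hcd, co_C_mul]
            have : co (delta d : MvPolynomial (Fin 2) Q) d 0 = 0 := by
              have e1 : co ((X 0 : MvPolynomial (Fin 2) Q) ^ d) d 0 = 1 := by
                have := co_monomial (1 : Q) d 0 d 0
                rw [map_one, one_mul, pow_zero, mul_one, if_pos ⟨rfl, rfl⟩] at this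
                exact this
              have e2 : co ((X 1 : MvPolynomial (Fin 2) Q) ^ d) d 0 = 0 := by
                have := co_monomial (1 : Q) 0 d d 0
                rw [map_one, one_mul, pow_zero, one_mul, if_neg (by omega)] at this
                exact this
              rw [delta, co_sub, co_sub, co_add_pow, e1, e2, if_pos (add_zero d)]
              simp
            rw [this, mul_zero, sub_zero]
          rw [show j = d - i by omega, hφ' i hi0 (by omega), co_C_mul, co_delta _ _ _ hi0 (by omega),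
            if_pos (by omega), mul_comm, sub_self]
        have e' : c - (dlt f g - 1) =
            (c - C a * delta d) - (dlt f g - dlt f g₁) - (dlt f g₁ - 1 - C a * delta d) := by ring
        rw [e']
        exact (main'.sub hch).sub hlin

end Char

end Groth.Agent.GaSplit
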