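import Groth.Agent.GaSplit.Cocycle

/-! Splitting over a ring of characteristic `p` with surjective Frobenius. -/

set_option autoImplicit false

universe u

open MvPolynomial

namespace Groth.Agent.GaSplit

theorem map_at2 {R S : Type u} [CommRing R] [CommRing S] (φ : R →+* S) {σ : Type}
    (a b : MvPolynomial σ R) (h : MvPolynomial (Fin 2) R) :
    MvPolynomial.map φ (at2 a b h) = at2 (MvPolynomial.map φ a) (MvPolynomial.map φ b) (MvPolynomial.map φ h) := by
  induction h using MvPolynomial.induction_on with
  | C r => simp [at2]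
  | add x y hx hy => simp only [map_add, hx, hy]
  | mul_X x i hx =>
    simp only [map_mul, hx, MvPolynomial.map_X]
    fin_cases i <;> simp [at2]

theorem Good.map {R S : Type u} [CommRing R] [CommRing S] (φ : R →+* S) {h : MvPolynomial (Fin 2) R}
    (H : Good h) : Good (MvPolynomial.map φ h) where
  zero := by
    have := congrArg (MvPolynomial.map φ) H.zero
    rwa [map_at2, MvPolynomial.map_X, map_zero, map_one] at this
  symm := by
    have := congrArg (MvPolynomial.map φ) H.symm
    rwa [map_at2, MvPolynomial.map_X, MvPolynomial.map_X] at this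
  coc := by
    have := congrArg (MvPolynomial.map φ) H.coc
    simpa only [map_mul, map_at2, map_add, MvPolynomial.map_X] using this

theorem map_dlt {R S : Type u} [CommRing R] [CommRing S] (φ : R →+* S) (f g : Polynomial R) :
    MvPolynomial.map φ (dlt f g) = dlt (f.map φ) (g.map φ) := by
  have key : ∀ (u : MvPolynomial (Fin 2) R) (e : Polynomial R),
      MvPolynomial.map φ (Polynomial.aeval u e) = Polynomial.aeval (MvPolynomial.map φ u) (e.map φ) := by
    intro u e
    induction e using Polynomial.induction_on' with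
    | add e e' he he' => simp only [map_add, Polynomial.map_add, he, he']
    | monomial n r => simp [← Polynomial.C_mul_X_pow_eq_monomial]
  simp only [dlt, map_mul, key, map_add, MvPolynomial.map_X]

/-- The nilpotent case. -/
theorem solvable_of_nilpotent {R : Type u} [CommRing R] {p : ℕ} [Fact p.Prime] (ι : ZMod p →+* R)
    (hF : ∀ a : R, ∃ b, b ^ p = a) (n : ℕ) :
    ∀ (J : Ideal R), J ^ (2 ^ n) = ⊥ → ∀ h : MvPolynomial (Fin 2) R, h - 1 ∈ J.map C → Good h →
      Solvable h := by
  induction n with
  | zero =>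
    intro J hJ h hh _
    rw [pow_zero, pow_one] at hJ
    rw [hJ, Ideal.map_bot, Ideal.mem_bot, sub_eq_zero] at hh
    rw [hh]
    exact solvable_one
  | succ n ih =>
    intro J hJ h hh hgood
    have hJnil : ∀ x ∈ J, IsNilpotent x := fun x hx => ⟨_, by
      have := Ideal.pow_mem_pow hx (2 ^ (n + 1))
      rwa [hJ, Ideal.mem_bot] at this⟩
    let π := Ideal.Quotient.mk (J * J)
    have hJ' : J.map π * J.map π = ⊥ := by rw [← Ideal.map_mul, Ideal.map_quotient_self]
    have hc : MvPolynomial.map π h - 1 ∈ (J.map π).map C := by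
      have := Ideal.mem_map_of_mem (MvPolynomial.map π) hh
      rw [map_sub, map_one, Ideal.map_map] at this
      rw [Ideal.map_map]
      convert this using 3
      exact RingHom.ext fun r => (MvPolynomial.map_C π r).symm
    have hg' : Good (MvPolynomial.map π h) := hgood.map π
    set c := MvPolynomial.map π h - 1 with hc_def
    have hh' : MvPolynomial.map π h = 1 + c := by rw [hc_def, add_sub_cancel]
    have hrel : Rel c := Good.rel hJ' hc (hh' ▸ hg')
    obtain ⟨f₁, g₁, hfg₁, h₁0, hf₁⟩ := solvable_sq_zero (π.comp ι) hJ'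
      (fun a => by
        obtain ⟨a, rfl⟩ := Ideal.Quotient.mk_surjective a
        obtain ⟨b, hb⟩ := hF a
        exact ⟨π b, by rw [← map_pow, hb]⟩)
      (c.totalDegree + 1) c hc hrel
      (fun i j k hk hij => coeff_eq_zero_of_totalDegree_lt (by
        have h2 : k < p ^ k := Nat.lt_pow_self (Fact.out (p := p.Prime)).one_lt
        rw [← Finsupp.degree_apply, map_add, Finsupp.degree_single, Finsupp.degree_single]
        omega))
    rw [← hh'] at hf₁
    obtain ⟨f₀, hf₀⟩ := Polynomial.map_surjective π Ideal.Quotient.mk_surjective f₁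
    let f := f₀ + Polynomial.C (1 - f₀.coeff 0)
    have hf0 : f.coeff 0 = 1 := by simp [f]
    have hfmap : f.map π = f₁ := by
      have : π (1 - f₀.coeff 0) = 0 := by
        rw [map_sub, map_one, ← Polynomial.coeff_map, hf₀, h₁0, sub_self]
      simp only [f, Polynomial.map_add, hf₀, Polynomial.map_C, this, Polynomial.C_0, add_zero]
    have hfu : IsUnit f := by
      refine Polynomial.isUnit_iff_coeff_isUnit_isNilpotent.2 ⟨by rw [hf0]; exact isUnit_one, fun i hi => ?_⟩
      obtain ⟨m, hm⟩ := (Polynomial.isUnit_iff_coeff_isUnit_isNilpotent.1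
        (IsUnit.of_mul_eq_one _ hfg₁)).2 i hi
      rw [← hfmap, Polynomial.coeff_map, ← map_pow, Ideal.Quotient.eq_zero_iff_mem] at hm
      obtain ⟨m', hm'⟩ := hJnil _ (Ideal.mul_le_left hm)
      exact ⟨m * m', by rw [pow_mul, hm']⟩
    obtain ⟨g, hfg⟩ := hfu.exists_right_inv
    have hg0 : g.coeff 0 = 1 := by
      have := congrArg (fun q => Polynomial.coeff q 0) hfg
      simpa [Polynomial.mul_coeff_zero, hf0] using this
    have hgmap : g.map π = g₁ := by
      have h1 := congrArg (Polynomial.map π) hfg
      rw [Polynomial.map_mul, Polynomial.map_one, hfmap] at h1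
      calc g.map π = (g₁ * f₁) * g.map π := by rw [mul_comm g₁, hfg₁, one_mul]
        _ = g₁ := by rw [mul_assoc, h1, mul_one]
    -- correct `h`
    have hgf : g * f = 1 := by rw [mul_comm, hfg]
    have hdd : dlt f g * dlt g f = 1 := by
      simp only [dlt]
      linear_combination
        (Polynomial.aeval (X 0 + X 1 : MvPolynomial (Fin 2) R) f * Polynomial.aeval (X 0 + X 1 : MvPolynomial (Fin 2) R) g) *
          (Polynomial.aeval (X 0 : MvPolynomial (Fin 2) R) g * Polynomial.aeval (X 0 : MvPolynomial (Fin 2) R) f) *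
          aeval_mul_eq_one hgf (X 1 : MvPolynomial (Fin 2) R) +
        (Polynomial.aeval (X 0 + X 1 : MvPolynomial (Fin 2) R) f * Polynomial.aeval (X 0 + X 1 : MvPolynomial (Fin 2) R) g) *
          aeval_mul_eq_one hgf (X 0 : MvPolynomial (Fin 2) R) +
        aeval_mul_eq_one hfg (X 0 + X 1 : MvPolynomial (Fin 2) R)
    have hnew : h * dlt g f - 1 ∈ (J * J).map C := by
      refine mem_map_C_iff.2 fun s => ?_
      have h0 : MvPolynomial.map π (h * dlt g f - 1) = 0 := by
        rw [map_sub, map_mul, map_one, hf₁, ← hfmap, ← hgmap, ← map_dlt, ← map_mul, hdd, map_one,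
          sub_self]
      have := congrArg (coeff s) h0
      rwa [coeff_map, coeff_zero, Ideal.Quotient.eq_zero_iff_mem] at this
    have hsol := ih (J * J) (by rw [← sq, ← pow_mul, ← pow_succ', hJ]) _ hnew
      (hgood.mul (good_dlt hgf hg0))
    have := (show Solvable (dlt f g) from ⟨f, g, hfg, hf0, rfl⟩).mul hsol
    rwa [show dlt f g * (h * dlt g f) = h by linear_combination h * hdd] at this

theorem exists_split (p : ℕ) [Fact p.Prime] (R : Type u) [CommRing R] [CharP R p]
    (hF : Function.Surjective (frobenius R p)) (h : MvPolynomial (Fin 2) R) (hu : IsUnit h)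
    (hgood : Good h) : ∃ f : Polynomial R, IsUnit f ∧
      Polynomial.aeval (X 0 + X 1 : MvPolynomial (Fin 2) R) f =
        Polynomial.aeval (X 0 : MvPolynomial (Fin 2) R) f *
          Polynomial.aeval (X 1 : MvPolynomial (Fin 2) R) f * h := by
  classical
  let J : Ideal R := Ideal.span (↑((h - 1).support.image fun s => coeff s (h - 1)))
  have hJ : h - 1 ∈ J.map C := by
    refine mem_map_C_iff.2 fun s => ?_
    by_cases hs : s ∈ (h - 1).support
    · exact Ideal.subset_span (Finset.mem_coe.2 (Finset.mem_image_of_mem _ hs))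
    · rw [notMem_support_iff.1 hs]; exact J.zero_mem
  have hnil : ∀ s, IsNilpotent (coeff s (h - 1)) := by
    intro s
    by_cases hs : s = 0
    · subst hs
      have h0 := congrArg constantCoeff hgood.zero
      have e : ∀ q : MvPolynomial (Fin 2) R,
          constantCoeff (at2 (X 0 : MvPolynomial (Fin 2) R) 0 q) = constantCoeff q := by
        intro q
        induction q using MvPolynomial.induction_on with
        | C r => simp [at2]
        | add x y hx hy => simp only [map_add, hx, hy]
        | mul_X x i hx => fin_cases i <;> simp [at2]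
      rw [e h, map_one, constantCoeff_eq] at h0
      rw [coeff_sub, h0]
      simp
    · rw [coeff_sub, coeff_one, if_neg (Ne.symm hs), sub_zero]
      exact (MvPolynomial.isUnit_iff.1 hu).2 s hs
  obtain ⟨N, hN⟩ : IsNilpotent J := by
    refine (Ideal.FG.isNilpotent_iff_le_nilradical ⟨_, rfl⟩).2 (Ideal.span_le.2 fun x hx => ?_)
    obtain ⟨s, _, rfl⟩ := Finset.mem_image.1 (Finset.mem_coe.1 hx)
    exact hnil s
  obtain ⟨f, g, hfg, h0, rfl⟩ := solvable_of_nilpotent (ZMod.castHom dvd_rfl R)
    (fun a => hF a) N J (eq_bot_iff.2 ((Ideal.pow_le_pow_right N.lt_two_pow_self.le).trans hN.le)) h hJ hgood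
  refine ⟨f, IsUnit.of_mul_eq_one _ hfg, ?_⟩
  simp only [dlt]
  linear_combination
    (-(Polynomial.aeval (X 0 + X 1 : MvPolynomial (Fin 2) R) f)) *
      aeval_mul_eq_one hfg (X 0 : MvPolynomial (Fin 2) R) -
    Polynomial.aeval (X 0 + X 1 : MvPolynomial (Fin 2) R) f *
      (Polynomial.aeval (X 0 : MvPolynomial (Fin 2) R) f * Polynomial.aeval (X 0 : MvPolynomial (Fin 2) R) g) *
      aeval_mul_eq_one hfg (X 1 : MvPolynomial (Fin 2) R)

end Groth.Agent.GaSplit
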