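import Groth.Agent.GaSplit.Main
import Mathlib.FieldTheory.PerfectClosure
import Mathlib.RingTheory.AdjoinRoot
import Mathlib.RingTheory.Flat.FaithfullyFlat.Algebra

/-! Splitting of cocycles after a finite free extension adjoining `p`-power roots. -/

set_option autoImplicit false

universe u v

open MvPolynomial

noncomputable section

namespace Groth.Agent.GaSplit

/-- Roots of finitely many elements exist in a finite free extension. -/
theorem exists_roots (R : Type u) [CommRing R] [Nontrivial R] {P : ℕ} (hP : 0 < P) :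
    ∀ (N : ℕ) (c : Fin N → R), ∃ (R' : Type u) (_ : CommRing R') (_ : Algebra R R'),
      Module.Free R R' ∧ Module.Finite R R' ∧ Nontrivial R' ∧ Algebra.FinitePresentation R R' ∧
        ∀ i, ∃ w : R', w ^ P = algebraMap R R' (c i) := by
  intro N
  induction N with
  | zero => intro c; exact ⟨R, inferInstance, inferInstance, inferInstance, inferInstance, inferInstance,
      inferInstance, fun i => i.elim0⟩
  | succ N ih =>
    intro c
    obtain ⟨R', _, _, _, _, _, _, hw⟩ := ih fun i => c i.castSucc
    let f : Polynomial R' := Polynomial.X ^ P - Polynomial.C (algebraMap R R' (c (Fin.last N)))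
    have hf : f.Monic := Polynomial.monic_X_pow_sub_C _ hP.ne'
    haveI := hf.free_adjoinRoot
    haveI := hf.finite_adjoinRoot
    haveI := Module.Free.trans (R := R) (S := R') (M := AdjoinRoot f)
    haveI := Module.Finite.trans (R := R) R' (AdjoinRoot f)
    haveI : Nontrivial (AdjoinRoot f) := Function.Injective.nontrivial
      (f := algebraMap R' (AdjoinRoot f)) (AdjoinRoot.powerBasis' hf |>.basis |> fun b => by
        haveI : Nonempty (Fin (AdjoinRoot.powerBasis' hf).dim) := by
          refine ⟨⟨0, ?_⟩⟩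
          rw [AdjoinRoot.powerBasis'_dim, Polynomial.natDegree_X_pow_sub_C]
          exact hP
        haveI : Nontrivial (AdjoinRoot f) := b.repr.toEquiv.nontrivial
        exact FaithfulSMul.algebraMap_injective R' (AdjoinRoot f))
    haveI : Module.FinitePresentation R (AdjoinRoot f) := Module.finitePresentation_of_projective R _
    refine ⟨AdjoinRoot f, inferInstance, inferInstance, inferInstance, inferInstance, inferInstance, inferInstance,
      fun i => ?_⟩
    induction i using Fin.lastCases with
    | last =>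
      refine ⟨AdjoinRoot.root f, ?_⟩
      have h := AdjoinRoot.eval₂_root f
      rw [Polynomial.eval₂_sub, Polynomial.eval₂_X_pow, Polynomial.eval₂_C, sub_eq_zero] at h
      rw [h, IsScalarTower.algebraMap_apply R R' (AdjoinRoot f)]
      rfl
    | cast i =>
      obtain ⟨w, hw⟩ := hw i
      exact ⟨algebraMap R' _ w, by rw [← map_pow, hw, ← IsScalarTower.algebraMap_apply]⟩

theorem map_aeval_eq {P : Type v} {S : Type u} [CommRing P] [CommRing S] (φ : P →+* S) {σ : Type}
    (u : MvPolynomial σ P) (e : Polynomial P) :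
    MvPolynomial.map φ (Polynomial.aeval u e) = Polynomial.aeval (MvPolynomial.map φ u) (e.map φ) := by
  induction e using Polynomial.induction_on' with
  | add e e' he he' => simp only [map_add, Polynomial.map_add, he, he']
  | monomial n r => simp [← Polynomial.C_mul_X_pow_eq_monomial]

theorem map_at2_eq {P : Type v} {S : Type u} [CommRing P] [CommRing S] (φ : P →+* S) {σ : Type}
    (a b : MvPolynomial σ P) (h : MvPolynomial (Fin 2) P) :
    MvPolynomial.map φ (at2 a b h) = at2 (MvPolynomial.map φ a) (MvPolynomial.map φ b) (MvPolynomial.map φ h) := by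
  induction h using MvPolynomial.induction_on with
  | C r => simp [at2]
  | add x y hx hy => simp only [map_add, hx, hy]
  | mul_X x i hx =>
    simp only [map_mul, hx, MvPolynomial.map_X]
    fin_cases i <;> simp [at2]

theorem Good.map_hom {P : Type v} {S : Type u} [CommRing P] [CommRing S] (φ : P →+* S)
    {h : MvPolynomial (Fin 2) P} (H : Good h) : Good (MvPolynomial.map φ h) where
  zero := by
    have := congrArg (MvPolynomial.map φ) H.zero
    rwa [map_at2_eq, MvPolynomial.map_X, map_zero, map_one] at this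
  symm := by
    have := congrArg (MvPolynomial.map φ) H.symm
    rwa [map_at2_eq, MvPolynomial.map_X, MvPolynomial.map_X] at this
  coc := by
    have := congrArg (MvPolynomial.map φ) H.coc
    simpa only [map_mul, map_at2_eq, map_add, MvPolynomial.map_X] using this

theorem Good.of_map {P : Type v} {S : Type u} [CommRing P] [CommRing S] (φ : P →+* S) (hφ : Function.Injective φ)
    {h : MvPolynomial (Fin 2) P} (H : Good (MvPolynomial.map φ h)) : Good h where
  zero := MvPolynomial.map_injective φ hφ (by
    rw [map_at2_eq, MvPolynomial.map_X, map_zero, map_one]; exact H.zero)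
  symm := MvPolynomial.map_injective φ hφ (by
    rw [map_at2_eq, MvPolynomial.map_X, MvPolynomial.map_X]; exact H.symm)
  coc := MvPolynomial.map_injective φ hφ (by
    simpa only [map_mul, map_at2_eq, map_add, MvPolynomial.map_X] using H.coc)

/-- The equation of a splitting. -/
def splitEq {P : Type v} [CommRing P] (h : MvPolynomial (Fin 2) P) (f : Polynomial P) : MvPolynomial (Fin 2) P :=
  Polynomial.aeval (X 0 + X 1 : MvPolynomial (Fin 2) P) f -
    Polynomial.aeval (X 0 : MvPolynomial (Fin 2) P) f * Polynomial.aeval (X 1 : MvPolynomial (Fin 2) P) f * h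

theorem map_splitEq {P : Type v} {S : Type u} [CommRing P] [CommRing S] (φ : P →+* S)
    (h : MvPolynomial (Fin 2) P) (f : Polynomial P) :
    MvPolynomial.map φ (splitEq h f) = splitEq (MvPolynomial.map φ h) (f.map φ) := by
  simp only [splitEq, map_sub, map_mul, map_aeval_eq, map_add, MvPolynomial.map_X]

section Stage

variable {p : ℕ} [hp : Fact p.Prime] (P0 : Type v) [CommRing P0] [IsReduced P0] [CharP P0 p]

/-- The copy of the ring at stage `k` of the perfect closure. -/
def stage (k : ℕ) : P0 →+* PerfectClosure P0 p :=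
  ((frobeniusEquiv (PerfectClosure P0 p) p).symm.toRingHom ^ k).comp (PerfectClosure.of P0 p)

theorem stage_pow (k : ℕ) (y : P0) : stage (p := p) P0 k y ^ p ^ k = PerfectClosure.of P0 p y := by
  induction k with
  | zero => simp [stage]
  | succ k ih =>
    rw [pow_succ', pow_mul]
    have : stage (p := p) P0 (k + 1) y ^ p = stage (p := p) P0 k y := by
      show (((frobeniusEquiv (PerfectClosure P0 p) p).symm.toRingHom ^ (k + 1)) _) ^ p = _
      rw [pow_succ']
      exact (frobeniusEquiv (PerfectClosure P0 p) p).apply_symm_apply _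
    rw [this, ih]

theorem stage_injective (k : ℕ) : Function.Injective (stage (p := p) P0 k) := fun a b h => by
  have h' := congrArg (· ^ p ^ k) h
  simp only [stage_pow] at h'
  rw [PerfectClosure.of_apply, PerfectClosure.of_apply, PerfectClosure.eq_iff] at h'
  simpa using h'

theorem stage_raise (k d : ℕ) (y : P0) : stage (p := p) P0 (k + d) (y ^ p ^ d) = stage (p := p) P0 k y := by
  refine (iterateFrobenius_inj (PerfectClosure P0 p) p (k + d)) ?_
  simp only [iterateFrobenius_def]
  rw [stage_pow, map_pow, ← stage_pow P0 k y, ← pow_mul, ← pow_add]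

theorem exists_stage (x : PerfectClosure P0 p) : ∃ k y, stage (p := p) P0 k y = x := by
  obtain ⟨⟨k, y⟩, rfl⟩ := PerfectClosure.mk_surjective P0 p x
  refine ⟨k, y, (iterateFrobenius_inj (PerfectClosure P0 p) p k) ?_⟩
  simp only [iterateFrobenius_def]
  rw [stage_pow, PerfectClosure.mk_pow, PerfectClosure.of_apply, PerfectClosure.eq_iff]
  simp only [Function.iterate_zero, id_eq]
  exact ((iterateFrobenius_def p k y).symm.trans (congrFun (coe_iterateFrobenius P0 p k) y)).symm

theorem stage_of_le {j k : ℕ} (h : j ≤ k) (y : P0) :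
    stage (p := p) P0 k (y ^ p ^ (k - j)) = stage (p := p) P0 j y := by
  obtain ⟨d, rfl⟩ := Nat.exists_eq_add_of_le h
  rw [Nat.add_sub_cancel_left, stage_raise]

/-- Membership in the extension of an ideal to the perfect closure is seen at a finite stage. -/
theorem eventually_mem (I : Ideal P0) {x : PerfectClosure P0 p} (hx : x ∈ I.map (PerfectClosure.of P0 p)) :
    ∃ k₀, ∀ k, k₀ ≤ k → ∀ y, stage (p := p) P0 k y = x → y ∈ I.map (iterateFrobenius P0 p k) := by
  refine Submodule.span_induction
    (p := fun x _ => ∃ k₀, ∀ k, k₀ ≤ k → ∀ y, stage (p := p) P0 k y = x → y ∈ I.map (iterateFrobenius P0 p k))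
    ?_ ?_ ?_ ?_ hx
  · rintro _ ⟨r, hr, rfl⟩
    refine ⟨0, fun k _ y hy => ?_⟩
    have e : y = iterateFrobenius P0 p k r := stage_injective P0 k (by
      rw [iterateFrobenius_def, hy, ← stage_pow P0 k r, map_pow])
    rw [e]
    exact Ideal.mem_map_of_mem _ hr
  · exact ⟨0, fun k _ y hy => by rw [stage_injective P0 k (hy.trans (map_zero _).symm)]; exact zero_mem _⟩
  · rintro x₁ x₂ - - ⟨k₁, h₁⟩ ⟨k₂, h₂⟩
    obtain ⟨j₁, y₁, hy₁⟩ := exists_stage P0 x₁
    obtain ⟨j₂, y₂, hy₂⟩ := exists_stage P0 x₂
    refine ⟨k₁ + k₂ + j₁ + j₂, fun k hk y hy => ?_⟩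
    have e₁ := h₁ k (by omega) _ ((stage_of_le P0 (by omega : j₁ ≤ k) y₁).trans hy₁)
    have e₂ := h₂ k (by omega) _ ((stage_of_le P0 (by omega : j₂ ≤ k) y₂).trans hy₂)
    rw [stage_injective P0 k (hy.trans (by rw [map_add, stage_of_le P0 (by omega : j₁ ≤ k), hy₁,
      stage_of_le P0 (by omega : j₂ ≤ k), hy₂]) : stage (p := p) P0 k y =
        stage (p := p) P0 k (y₁ ^ p ^ (k - j₁) + y₂ ^ p ^ (k - j₂)))]
    exact add_mem e₁ e₂
  · rintro c x - ⟨k₁, h₁⟩
    obtain ⟨j₁, y₁, hy₁⟩ := exists_stage P0 x
    obtain ⟨j₂, y₂, hy₂⟩ := exists_stage P0 c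
    refine ⟨k₁ + j₁ + j₂, fun k hk y hy => ?_⟩
    have e₁ := h₁ k (by omega) _ ((stage_of_le P0 (by omega : j₁ ≤ k) y₁).trans hy₁)
    rw [stage_injective P0 k (hy.trans (by rw [smul_eq_mul, map_mul, stage_of_le P0 (by omega : j₁ ≤ k), hy₁,
      stage_of_le P0 (by omega : j₂ ≤ k), hy₂]) : stage (p := p) P0 k y =
        stage (p := p) P0 k (y₂ ^ p ^ (k - j₂) * y₁ ^ p ^ (k - j₁)))]
    exact Ideal.mul_mem_left _ _ e₁

theorem eventually_stage (s : Finset (PerfectClosure P0 p)) :
    ∃ k₀, ∀ k, k₀ ≤ k → ∀ x ∈ s, ∃ y, stage (p := p) P0 k y = x := by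
  classical
  induction s using Finset.induction_on with
  | empty => exact ⟨0, fun k _ x hx => absurd hx (Finset.notMem_empty x)⟩
  | insert a s _ ih =>
    obtain ⟨k₀, hk₀⟩ := ih
    obtain ⟨j, y, hy⟩ := exists_stage P0 a
    refine ⟨k₀ + j, fun k hk x hx => ?_⟩
    rcases Finset.mem_insert.1 hx with rfl | hx
    · exact ⟨_, (stage_of_le P0 (by omega : j ≤ k) y).trans hy⟩
    · exact hk₀ k (by omega) x hx

end Stage

/-- A cocycle is split by a finite free extension adjoining `p`-power roots. -/
theorem exists_split_after_roots (p : ℕ) [hp : Fact p.Prime] (R : Type u) [CommRing R] [CharP R p]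
    (h : MvPolynomial (Fin 2) R) (hu : IsUnit h) (hgood : Good h) :
    ∃ (R' : Type u) (_ : CommRing R') (_ : Algebra R R'),
      Module.Free R R' ∧ Module.Finite R R' ∧ Nontrivial R' ∧ Algebra.FinitePresentation R R' ∧
      ∃ f : Polynomial R', IsUnit f ∧
        Polynomial.aeval (X 0 + X 1 : MvPolynomial (Fin 2) R') f =
          Polynomial.aeval (X 0 : MvPolynomial (Fin 2) R') f * Polynomial.aeval (X 1 : MvPolynomial (Fin 2) R') f *
            MvPolynomial.map (algebraMap R R') h := by
  classical
  haveI : Nontrivial R := CharP.nontrivial_of_char_ne_one (R := R) hp.out.ne_one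
  obtain ⟨h, rfl⟩ := hu
  let C0 : Finset R := ((h : MvPolynomial (Fin 2) R).support.image fun s => coeff s (h : MvPolynomial (Fin 2) R)) ∪
    ((↑h⁻¹ : MvPolynomial (Fin 2) R).support.image fun s => coeff s (↑h⁻¹ : MvPolynomial (Fin 2) R))
  let c : Fin C0.card → R := fun i => (C0.equivFin.symm i).1
  let P0 := MvPolynomial (Fin C0.card) (ZMod p)
  let φ : P0 →+* R := eval₂Hom (ZMod.castHom dvd_rfl R) c
  have hrange : ∀ r ∈ C0, r ∈ φ.range := fun r hr =>
    ⟨X (C0.equivFin ⟨r, hr⟩), (eval₂Hom_X' _ _ _).trans (congrArg Subtype.val (C0.equivFin.symm_apply_apply ⟨r, hr⟩))⟩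
  have hlift : ∀ g : MvPolynomial (Fin 2) R, (∀ s ∈ g.support, coeff s g ∈ C0) →
      ∃ G : MvPolynomial (Fin 2) P0, MvPolynomial.map φ G = g := fun g hg => by
    refine (MvPolynomial.mem_range_map_iff_coeffs_subset (f := φ)).2 fun r hr => ?_
    obtain ⟨s, hs, rfl⟩ := MvPolynomial.mem_coeffs_iff.1 hr
    exact hrange _ (hg s hs)
  obtain ⟨H, hH⟩ := hlift h fun s hs => Finset.mem_union_left _ (Finset.mem_image_of_mem _ hs)
  obtain ⟨H', hH'⟩ := hlift (↑h⁻¹) fun s hs => Finset.mem_union_right _ (Finset.mem_image_of_mem _ hs)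
  let I := RingHom.ker φ
  let R0 := P0 ⧸ I
  let φ0 : R0 →+* R := Ideal.Quotient.lift I φ fun _ ha => ha
  have hφ0 : Function.Injective φ0 := RingHom.lift_injective_of_ker_le_ideal I _ le_rfl
  let π0 : P0 →+* R0 := Ideal.Quotient.mk I
  have hφπ : φ0.comp π0 = φ := RingHom.ext fun _ => rfl
  let J := I.map (PerfectClosure.of P0 p)
  let Ω := PerfectClosure P0 p ⧸ J
  let ω : R0 →+* Ω := Ideal.Quotient.lift I ((Ideal.Quotient.mk J).comp (PerfectClosure.of P0 p))
    fun a ha => Ideal.Quotient.eq_zero_iff_mem.2 (Ideal.mem_map_of_mem _ ha)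
  have hJ : J ≠ ⊤ := fun htop => by
    obtain ⟨k₀, hk₀⟩ := eventually_mem (p := p) P0 I (x := 1) (show (1 : PerfectClosure P0 p) ∈ J by rw [htop]; trivial)
    have h1 := hk₀ k₀ le_rfl 1 (map_one _)
    have hle : I.map (iterateFrobenius P0 p k₀) ≤ I := Ideal.map_le_iff_le_comap.2 fun r hr => by
      show iterateFrobenius P0 p k₀ r ∈ I
      rw [iterateFrobenius_def]
      exact I.pow_mem_of_mem hr _ (pow_pos hp.out.pos _)
    exact one_ne_zero ((map_one φ).symm.trans (hle h1))
  haveI : Nontrivial Ω := Ideal.Quotient.nontrivial_iff.2 hJ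
  haveI : CharP Ω p := by
    refine CharP.quotient' p J fun n hn => ?_
    by_contra hne
    refine hJ (J.eq_top_of_isUnit_mem hn ?_)
    exact (CharP.isUnit_natCast_iff hp.out).2 fun hd => hne ((CharP.cast_eq_zero_iff _ p n).2 hd)
  have hFΩ : Function.Surjective (frobenius Ω p) := fun a => by
    obtain ⟨a, rfl⟩ := Ideal.Quotient.mk_surjective a
    obtain ⟨b, hb⟩ := (PerfectRing.bijective_frobenius (R := PerfectClosure P0 p) (p := p)).2 a
    exact ⟨Ideal.Quotient.mk J b, (map_pow (Ideal.Quotient.mk J) b p).symm.trans (congrArg _ hb)⟩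
  -- the equations over the ring generated by the coefficients
  have hgood0 : Good (MvPolynomial.map π0 H) := Good.of_map φ0 hφ0 (by rwa [MvPolynomial.map_map, hφπ, hH])
  have hunit0 : IsUnit (MvPolynomial.map π0 H) := IsUnit.of_mul_eq_one (MvPolynomial.map π0 H')
    (MvPolynomial.map_injective φ0 hφ0 (by
      rw [map_mul, MvPolynomial.map_map, MvPolynomial.map_map, hφπ, hH, hH', map_one, Units.mul_inv]))
  obtain ⟨f, hf, hfeq⟩ := exists_split p Ω hFΩ (MvPolynomial.map ω (MvPolynomial.map π0 H)) (hunit0.map _)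
    (hgood0.map_hom ω)
  obtain ⟨g, hfg⟩ := hf.exists_right_inv
  obtain ⟨F, hF⟩ := Polynomial.map_surjective (Ideal.Quotient.mk J) Ideal.Quotient.mk_surjective f
  obtain ⟨G, hG⟩ := Polynomial.map_surjective (Ideal.Quotient.mk J) Ideal.Quotient.mk_surjective g
  -- all coefficients and relations live at a finite stage
  obtain ⟨k₀, hk₀⟩ := eventually_stage (p := p) P0
    ((F.support.image fun i => F.coeff i) ∪ (G.support.image fun i => G.coeff i))
  have hstage : ∀ (k : ℕ), k₀ ≤ k → ∃ F' G' : Polynomial P0, F'.map (stage (p := p) P0 k) = F ∧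
      G'.map (stage (p := p) P0 k) = G := by
    intro k hk
    have key : ∀ E : Polynomial (PerfectClosure P0 p), (∀ i ∈ E.support, ∃ y, stage (p := p) P0 k y = E.coeff i) →
        ∃ E' : Polynomial P0, E'.map (stage (p := p) P0 k) = E := fun E hE => by
      refine (Polynomial.mem_lifts E).1 ((Polynomial.lifts_iff_coeff_lifts E).2 fun i => ?_)
      by_cases hi : i ∈ E.support
      · exact hE i hi
      · exact ⟨0, by rw [map_zero, Polynomial.notMem_support_iff.1 hi]⟩
    obtain ⟨F', hF'⟩ := key F fun i hi => hk₀ k hk _ (Finset.mem_union_left _ (Finset.mem_image_of_mem _ hi))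
    obtain ⟨G', hG'⟩ := key G fun i hi => hk₀ k hk _ (Finset.mem_union_right _ (Finset.mem_image_of_mem _ hi))
    exact ⟨F', G', hF', hG'⟩
  let HΩ := MvPolynomial.map (PerfectClosure.of P0 p) H
  let E1 : Polynomial (PerfectClosure P0 p) := F * G - 1
  let E2 : MvPolynomial (Fin 2) (PerfectClosure P0 p) := splitEq HΩ F
  have hE1 : ∀ i, E1.coeff i ∈ J := fun i => by
    rw [← Ideal.Quotient.eq_zero_iff_mem, ← Polynomial.coeff_map, Polynomial.map_sub, Polynomial.map_mul,
      Polynomial.map_one, hF, hG, hfg, sub_self, Polynomial.coeff_zero]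
  have hE2 : ∀ s, coeff s E2 ∈ J := fun s => by
    rw [← Ideal.Quotient.eq_zero_iff_mem, ← coeff_map, map_splitEq, hF, MvPolynomial.map_map]
    have e : MvPolynomial.map ((Ideal.Quotient.mk J).comp (PerfectClosure.of P0 p)) H =
        MvPolynomial.map ω (MvPolynomial.map π0 H) := by rw [MvPolynomial.map_map]; rfl
    rw [e, splitEq, hfeq, sub_self, coeff_zero]
  choose a ha using fun i => eventually_mem (p := p) P0 I (hE1 i)
  choose b hb using fun s => eventually_mem (p := p) P0 I (hE2 s)
  let k := k₀ + ∑ i ∈ E1.support, a i + ∑ s ∈ E2.support, b s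
  obtain ⟨F', G', hF', hG'⟩ := hstage k (by omega)
  obtain ⟨R', _, _, _, _, _, _, hw⟩ := exists_roots R (pow_pos hp.out.pos k) C0.card c
  choose w hw using hw
  haveI : CharP R' p := charP_of_injective_algebraMap (FaithfulSMul.algebraMap_injective R R') p
  let ψ : P0 →+* R' := eval₂Hom (ZMod.castHom dvd_rfl R') w
  have hψ : ψ.comp (iterateFrobenius P0 p k) = (algebraMap R R').comp φ := by
    refine MvPolynomial.ringHom_ext (fun z => ?_) fun i => ?_
    · exact RingHom.congr_fun (Subsingleton.elim ((ψ.comp (iterateFrobenius P0 p k)).comp C)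
        (((algebraMap R R').comp φ).comp C)) z
    · show eval₂Hom (ZMod.castHom dvd_rfl R') w (iterateFrobenius P0 p k (X i)) =
        algebraMap R R' (eval₂Hom (ZMod.castHom dvd_rfl R) c (X i))
      rw [iterateFrobenius_def, map_pow, eval₂Hom_X', eval₂Hom_X', hw]
  have hker : I.map (iterateFrobenius P0 p k) ≤ RingHom.ker ψ := Ideal.map_le_iff_le_comap.2 fun r hr => by
    show ψ (iterateFrobenius P0 p k r) = 0
    rw [← RingHom.comp_apply, hψ, RingHom.comp_apply, show φ r = 0 from hr, map_zero]
  have h1 : (F'.map ψ) * (G'.map ψ) = 1 := by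
    rw [← sub_eq_zero, ← Polynomial.map_mul, ← Polynomial.map_one ψ, ← Polynomial.map_sub]
    ext i
    rw [Polynomial.coeff_map, Polynomial.coeff_zero]
    by_cases hi : i ∈ E1.support
    · refine hker (ha i k ?_ _ ?_)
      · have := Finset.single_le_sum (fun i _ => Nat.zero_le (a i)) hi
        omega
      · rw [← Polynomial.coeff_map, Polynomial.map_sub, Polynomial.map_mul, Polynomial.map_one, hF', hG']
    · have : (F' * G' - 1).coeff i = 0 := stage_injective (p := p) P0 k (by
        rw [← Polynomial.coeff_map, Polynomial.map_sub, Polynomial.map_mul, Polynomial.map_one, hF', hG', map_zero]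
        exact Polynomial.notMem_support_iff.1 hi)
      rw [this, map_zero]
  have h2 : splitEq (MvPolynomial.map (algebraMap R R') (h : MvPolynomial (Fin 2) R)) (F'.map ψ) = 0 := by
    let D := splitEq (MvPolynomial.map (iterateFrobenius P0 p k) H) F'
    have hD : MvPolynomial.map (stage (p := p) P0 k) D = E2 := by
      rw [map_splitEq, hF', MvPolynomial.map_map]
      exact congrArg (fun e => splitEq (MvPolynomial.map e H) F)
        (RingHom.ext fun y => by rw [RingHom.comp_apply, iterateFrobenius_def, map_pow, stage_pow])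
    have hDψ : MvPolynomial.map ψ D = splitEq (MvPolynomial.map (algebraMap R R') (h : MvPolynomial (Fin 2) R))
        (F'.map ψ) := by
      rw [map_splitEq, MvPolynomial.map_map, hψ, ← hH, MvPolynomial.map_map]
    rw [← hDψ]
    ext s
    rw [coeff_map, coeff_zero]
    by_cases hs : s ∈ E2.support
    · refine hker (hb s k ?_ _ ?_)
      · have := Finset.single_le_sum (fun s _ => Nat.zero_le (b s)) hs
        omega
      · rw [← coeff_map, hD]
    · have : coeff s D = 0 := stage_injective (p := p) P0 k (by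
        rw [← coeff_map, hD, map_zero]
        exact notMem_support_iff.1 hs)
      rw [this, map_zero]
  exact ⟨R', inferInstance, inferInstance, inferInstance, inferInstance, inferInstance, inferInstance, F'.map ψ,
    IsUnit.of_mul_eq_one _ h1, sub_eq_zero.1 h2⟩

end Groth.Agent.GaSplit
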