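import Groth.Agent.GaSplit.Lazard

/-! Symmetric multiplicative polynomial cocycles. -/

set_option autoImplicit false

universe u

open MvPolynomial

namespace Groth.Agent.GaSplit

variable {Q : Type u} [CommRing Q]

/-- The coefficient of `X ^ i * Y ^ j`. -/
noncomputable def co (c : MvPolynomial (Fin 2) Q) (i j : ℕ) : Q :=
  coeff (Finsupp.single 0 i + Finsupp.single 1 j) c

theorem co_ext {c c' : MvPolynomial (Fin 2) Q} (h : ∀ i j, co c i j = co c' i j) : c = c' := by
  refine MvPolynomial.ext _ _ fun s => ?_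
  have : Finsupp.single 0 (s 0) + Finsupp.single 1 (s 1) = s := by
    ext a; fin_cases a <;> simp
  rw [← this]
  exact h _ _

theorem co_sub (c c' : MvPolynomial (Fin 2) Q) (i j : ℕ) : co (c - c') i j = co c i j - co c' i j := by
  simp [co]

theorem single_add_eq_iff {i j a b : ℕ} :
    (Finsupp.single (0 : Fin 2) i + Finsupp.single 1 j) = Finsupp.single 0 a + Finsupp.single 1 b ↔
      i = a ∧ j = b := by
  refine ⟨fun h => ?_, fun ⟨h1, h2⟩ => by rw [h1, h2]⟩
  constructor
  · simpa using DFunLike.congr_fun h 0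
  · simpa using DFunLike.congr_fun h 1

/-- Evaluation of a two-variable polynomial at a pair. -/
noncomputable def at2 {S : Type u} [CommRing S] [Algebra Q S] (a b : S) :
    MvPolynomial (Fin 2) Q →ₐ[Q] S :=
  aeval ![a, b]

/-- The conditions on a normalised symmetric multiplicative cocycle. -/
structure Good (h : MvPolynomial (Fin 2) Q) : Prop where
  zero : at2 (X 0 : MvPolynomial (Fin 2) Q) 0 h = 1
  symm : at2 (X 1 : MvPolynomial (Fin 2) Q) (X 0) h = h
  coc : at2 (X 1 : MvPolynomial (Fin 3) Q) (X 2) h * at2 (X 0 : MvPolynomial (Fin 3) Q) (X 1 + X 2) h =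
    at2 (X 0 + X 1 : MvPolynomial (Fin 3) Q) (X 2) h * at2 (X 0 : MvPolynomial (Fin 3) Q) (X 1) h

theorem Good.mul {h h' : MvPolynomial (Fin 2) Q} (H : Good h) (H' : Good h') : Good (h * h') where
  zero := by rw [map_mul, H.zero, H'.zero, one_mul]
  symm := by rw [map_mul, H.symm, H'.symm]
  coc := by
    simp only [map_mul]
    rw [mul_mul_mul_comm, H.coc, H'.coc, mul_mul_mul_comm]

/-- The coboundary of `f`, `g` being the inverse of `f`. -/
noncomputable def dlt (f g : Polynomial Q) : MvPolynomial (Fin 2) Q :=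
  Polynomial.aeval (X 0 + X 1 : MvPolynomial (Fin 2) Q) f *
    Polynomial.aeval (X 0 : MvPolynomial (Fin 2) Q) g * Polynomial.aeval (X 1 : MvPolynomial (Fin 2) Q) g

theorem at2_dlt {S : Type u} [CommRing S] [Algebra Q S] (a b : S) (f g : Polynomial Q) :
    at2 a b (dlt f g) = Polynomial.aeval (a + b) f * Polynomial.aeval a g * Polynomial.aeval b g := by
  simp only [dlt, map_mul, ← Polynomial.aeval_algHom_apply, map_add, at2, aeval_X]
  simp

theorem aeval_mul_eq_one {S : Type u} [CommRing S] [Algebra Q S] {f g : Polynomial Q} (hfg : f * g = 1)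
    (a : S) : Polynomial.aeval a f * Polynomial.aeval a g = 1 := by rw [← map_mul, hfg, map_one]

theorem good_dlt {f g : Polynomial Q} (hfg : f * g = 1) (h0 : f.coeff 0 = 1) : Good (dlt f g) where
  zero := by
    have hg0 : g.coeff 0 = 1 := by
      have := congrArg (fun q => Polynomial.coeff q 0) hfg
      simpa [Polynomial.mul_coeff_zero, h0] using this
    rw [at2_dlt, add_zero, aeval_mul_eq_one hfg, one_mul, ← Polynomial.coeff_zero_eq_aeval_zero',
      hg0, map_one]
  symm := by rw [at2_dlt, dlt, add_comm (X 1 : MvPolynomial (Fin 2) Q)]; ring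
  coc := by
    simp only [at2_dlt]
    set F := fun s : MvPolynomial (Fin 3) Q => Polynomial.aeval s f
    set G := fun s : MvPolynomial (Fin 3) Q => Polynomial.aeval s g
    have e1 : F (X 1 + X 2) * G (X 1 + X 2) = 1 := aeval_mul_eq_one hfg _
    have e2 : F (X 0 + X 1) * G (X 0 + X 1) = 1 := aeval_mul_eq_one hfg _
    show F (X 1 + X 2) * G (X 1) * G (X 2) * (F (X 0 + (X 1 + X 2)) * G (X 0) * G (X 1 + X 2)) =
      F (X 0 + X 1 + X 2) * G (X 0 + X 1) * G (X 2) * (F (X 0 + X 1) * G (X 0) * G (X 1))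
    rw [add_assoc (X 0 : MvPolynomial (Fin 3) Q)]
    linear_combination (F (X 0 + (X 1 + X 2)) * G (X 0) * G (X 1) * G (X 2)) * (e1 - e2)

/-- The coboundaries. -/
def Solvable (h : MvPolynomial (Fin 2) Q) : Prop :=
  ∃ f g : Polynomial Q, f * g = 1 ∧ f.coeff 0 = 1 ∧ h = dlt f g

theorem solvable_one : Solvable (1 : MvPolynomial (Fin 2) Q) :=
  ⟨1, 1, one_mul 1, by simp, by simp [dlt]⟩

theorem Solvable.mul {h h' : MvPolynomial (Fin 2) Q} (H : Solvable h) (H' : Solvable h') :
    Solvable (h * h') := by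
  obtain ⟨f, g, hfg, h0, rfl⟩ := H
  obtain ⟨f', g', hfg', h0', rfl⟩ := H'
  refine ⟨f * f', g * g', by rw [mul_mul_mul_comm, hfg, hfg', one_mul],
    by rw [Polynomial.mul_coeff_zero, h0, h0', one_mul], ?_⟩
  simp only [dlt, map_mul]
  ring

theorem Solvable.good {h : MvPolynomial (Fin 2) Q} (H : Solvable h) : Good h := by
  obtain ⟨f, g, hfg, h0, rfl⟩ := H
  exact good_dlt hfg h0

theorem monomial_two (a : Q) (i j : ℕ) :
    monomial (Finsupp.single (0 : Fin 2) i + Finsupp.single 1 j) a = C a * X 0 ^ i * X 1 ^ j := by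
  rw [X_pow_eq_monomial, X_pow_eq_monomial, C_mul_monomial, monomial_mul, mul_one, mul_one]

theorem co_monomial (a : Q) (i j i' j' : ℕ) :
    co (C a * X 0 ^ i * X 1 ^ j) i' j' = if i = i' ∧ j = j' then a else 0 := by
  classical
  rw [co, ← monomial_two, coeff_monomial]
  exact if_congr single_add_eq_iff rfl rfl

theorem co_C_mul (a : Q) (c : MvPolynomial (Fin 2) Q) (i j : ℕ) : co (C a * c) i j = a * co c i j :=
  coeff_C_mul _ _ _

/-- The coboundary of `X ^ d`. -/
noncomputable def delta (d : ℕ) : MvPolynomial (Fin 2) Q := (X 0 + X 1) ^ d - X 0 ^ d - X 1 ^ d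

theorem co_add_pow (d i j : ℕ) :
    co ((X 0 + X 1) ^ d : MvPolynomial (Fin 2) Q) i j =
      if i + j = d then ((Nat.choose d i : ℕ) : Q) else 0 := by
  classical
  rw [add_pow, co, coeff_sum]
  have : ∀ m ∈ Finset.range (d + 1), coeff (Finsupp.single 0 i + Finsupp.single 1 j)
      (X 0 ^ m * X 1 ^ (d - m) * ((Nat.choose d m : ℕ) : MvPolynomial (Fin 2) Q)) =
      if m = i ∧ d - m = j then ((Nat.choose d m : ℕ) : Q) else 0 := fun m _ => by
    rw [show (X 0 ^ m * X 1 ^ (d - m) * ((Nat.choose d m : ℕ) : MvPolynomial (Fin 2) Q)) =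
      C ((Nat.choose d m : ℕ) : Q) * X 0 ^ m * X 1 ^ (d - m) by rw [map_natCast]; ring]
    exact co_monomial _ _ _ _ _
  rw [Finset.sum_congr rfl this]
  by_cases h : i + j = d
  · rw [if_pos h, Finset.sum_eq_single i]
    · rw [if_pos ⟨rfl, by omega⟩]
    · intro m _ hm; rw [if_neg (fun h => hm h.1)]
    · intro hm; exact absurd (Finset.mem_range.2 (by omega)) hm
  · rw [if_neg h]
    refine Finset.sum_eq_zero fun m hm => if_neg ?_
    rintro ⟨rfl, rfl⟩
    exact h (by have := Finset.mem_range.1 hm; omega)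

theorem co_delta (d i j : ℕ) (hi : 1 ≤ i) (hj : 1 ≤ j) :
    co (delta d : MvPolynomial (Fin 2) Q) i j = if i + j = d then ((Nat.choose d i : ℕ) : Q) else 0 := by
  classical
  have e1 : ∀ m, co (X 0 ^ m : MvPolynomial (Fin 2) Q) i j = 0 := fun m => by
    have h := co_monomial (1 : Q) m 0 i j
    rw [map_one, one_mul, pow_zero, mul_one, if_neg (by omega)] at h
    exact h
  have e2 : ∀ m, co (X 1 ^ m : MvPolynomial (Fin 2) Q) i j = 0 := fun m => by
    have h := co_monomial (1 : Q) 0 m i j
    rw [map_one, one_mul, pow_zero, one_mul, if_neg (by omega)] at h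
    exact h
  rw [delta, co_sub, co_sub, e1, e2, sub_zero, sub_zero, co_add_pow]

theorem solvable_delta {a : Q} (ha : a * a = 0) {d : ℕ} (hd : d ≠ 0) :
    Solvable (1 + C a * delta d : MvPolynomial (Fin 2) Q) := by
  have hC : (C a : MvPolynomial (Fin 2) Q) * C a = 0 := by rw [← map_mul, ha, map_zero]
  refine ⟨1 + Polynomial.C a * Polynomial.X ^ d, 1 - Polynomial.C a * Polynomial.X ^ d, ?_, ?_, ?_⟩
  · have : Polynomial.C a * Polynomial.C a = 0 := by rw [← Polynomial.C_mul, ha, Polynomial.C_0]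
    linear_combination (-(Polynomial.X ^ d) ^ 2) * this
  · simp [Polynomial.coeff_X_pow, Ne.symm hd]
  · simp only [dlt, delta, map_add, map_sub, map_one, map_mul, map_pow, Polynomial.aeval_C,
      Polynomial.aeval_X, MvPolynomial.algebraMap_eq]
    linear_combination ((X 0 + X 1) ^ d * (X 0) ^ d + (X 0 + X 1) ^ d * (X 1) ^ d -
      (X 0) ^ d * (X 1) ^ d - C a * ((X 0 + X 1) ^ d * (X 0) ^ d * (X 1) ^ d)) * hC

/-- The additive relations on the coefficients. -/
structure Rel (c : MvPolynomial (Fin 2) Q) : Prop where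
  zero : ∀ i, co c i 0 = 0
  symm : ∀ i j, co c j i = co c i j
  rel : ∀ i j l, 1 ≤ i → 1 ≤ j → 1 ≤ l →
    ((Nat.choose (i + j) i : ℕ) : Q) * co c (i + j) l = ((Nat.choose (j + l) j : ℕ) : Q) * co c i (j + l)

theorem Rel.sub {c c' : MvPolynomial (Fin 2) Q} (h : Rel c) (h' : Rel c') : Rel (c - c') where
  zero i := by rw [co_sub, h.zero, h'.zero, sub_zero]
  symm i j := by rw [co_sub, co_sub, h.symm, h'.symm]
  rel i j l hi hj hl := by rw [co_sub, co_sub, mul_sub, mul_sub, h.rel i j l hi hj hl, h'.rel i j l hi hj hl]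

theorem Rel.co_zero_left {c : MvPolynomial (Fin 2) Q} (h : Rel c) (j : ℕ) : co c 0 j = 0 := by
  rw [← h.symm, h.zero]

theorem mul_eq_zero_of_mem {J : Ideal Q} (hJ : J * J = ⊥) {σ : Type} {x y : MvPolynomial σ Q}
    (hx : x ∈ J.map C) (hy : y ∈ J.map C) : x * y = 0 := by
  have h := Ideal.mul_mem_mul hx hy
  rwa [← Ideal.map_mul, hJ, Ideal.map_bot, Ideal.mem_bot] at h

theorem at2_mem {J : Ideal Q} {σ : Type} (a b : MvPolynomial σ Q) {c : MvPolynomial (Fin 2) Q}
    (hc : c ∈ J.map C) : at2 a b c ∈ J.map C := by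
  have h := Ideal.mem_map_of_mem (at2 a b : MvPolynomial (Fin 2) Q →ₐ[Q] MvPolynomial σ Q).toRingHom hc
  rw [Ideal.map_map] at h
  convert h using 2
  · exact RingHom.ext fun r => ((at2 a b : MvPolynomial (Fin 2) Q →ₐ[Q] MvPolynomial σ Q).commutes r).symm
  · rfl

/-- Linearisation of the cocycle conditions. -/
theorem Good.rel {J : Ideal Q} (hJ : J * J = ⊥) {c : MvPolynomial (Fin 2) Q} (hc : c ∈ J.map C)
    (H : Good (1 + c)) : Rel c := by
  classical
  have hmon : ∀ (s : Fin 2 →₀ ℕ) (r : Q) {S : Type u} [CommRing S] [Algebra Q S] (a b : S),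
      at2 a b (monomial s r) = algebraMap Q S r * (a ^ s 0 * b ^ s 1) := by
    intro s r S _ _ a b
    rw [at2, aeval_monomial, Finsupp.prod_fintype _ _ (fun i => pow_zero _), Fin.prod_univ_two]
    rfl
  have hz : at2 (X 0 : MvPolynomial (Fin 2) Q) 0 c = 0 := by
    simpa using H.zero
  have hs : at2 (X 1 : MvPolynomial (Fin 2) Q) (X 0) c = c := by
    simpa using H.symm
  have hc' := H.coc
  simp only [map_add, map_one] at hc'
  have hm : ∀ a b : MvPolynomial (Fin 3) Q, at2 a b c ∈ J.map C := fun a b => at2_mem a b hc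
  have hadd : at2 (X 1 : MvPolynomial (Fin 3) Q) (X 2) c + at2 (X 0 : MvPolynomial (Fin 3) Q) (X 1 + X 2) c =
      at2 (X 0 + X 1 : MvPolynomial (Fin 3) Q) (X 2) c + at2 (X 0 : MvPolynomial (Fin 3) Q) (X 1) c := by
    linear_combination hc' - mul_eq_zero_of_mem hJ (hm (X 1) (X 2)) (hm (X 0) (X 1 + X 2)) +
      mul_eq_zero_of_mem hJ (hm (X 0 + X 1) (X 2)) (hm (X 0) (X 1))
  refine ⟨fun i => ?_, fun i j => ?_, fun i j l hi hj hl => ?_⟩
  · have h := congrArg (fun q => co q i 0) hz
    rw [MvPolynomial.as_sum c] at h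
    simp only [map_sum, hmon, MvPolynomial.algebraMap_eq, co, coeff_sum, coeff_zero] at h
    rw [co]
    refine (Eq.trans ?_ h)
    rw [Finset.sum_eq_single (Finsupp.single 0 i + Finsupp.single 1 0)]
    · simp [X_pow_eq_monomial, coeff_C_mul]
    · intro s _ hne
      rw [coeff_C_mul]
      by_cases h1 : s 1 = 0
      · rw [h1, pow_zero, mul_one, X_pow_eq_monomial, coeff_monomial, if_neg, mul_zero]
        intro he
        refine hne (Finsupp.ext fun a => ?_)
        have h0 := DFunLike.congr_fun he 0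
        fin_cases a
        · simpa using h0
        · simpa using h1
      · simp [zero_pow h1]
    · intro hns
      rw [notMem_support_iff.1 hns, map_zero, zero_mul, coeff_zero]
  · have h := congrArg (fun q => co q i j) hs
    refine Eq.trans ?_ h
    show co c j i = co _ i j
    have : co c j i = co (MvPolynomial.rename (Equiv.swap (0 : Fin 2) 1) c) i j := by
      have h2 := coeff_rename_mapDomain (Equiv.swap (0 : Fin 2) 1) (Equiv.injective _) c
        (Finsupp.single 0 j + Finsupp.single 1 i)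
      rw [Finsupp.mapDomain_add, Finsupp.mapDomain_single, Finsupp.mapDomain_single,
        Equiv.swap_apply_left, Equiv.swap_apply_right, add_comm (Finsupp.single (1 : Fin 2) j)] at h2
      exact h2.symm
    rw [this]
    congr 1
    rw [MvPolynomial.rename_eq_aeval]
    · simp only [at2]
      congr 2
      ext a
      fin_cases a <;> simp
  · -- the coefficient of `X ^ i * Y ^ j * Z ^ l`
    let t : Fin 3 →₀ ℕ := Finsupp.single 0 i + Finsupp.single 1 j + Finsupp.single 2 l
    have ht : t 0 = i ∧ t 1 = j ∧ t 2 = l := ⟨by simp [t], by simp [t], by simp [t]⟩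
    have hmon3 : ∀ a b e : ℕ, coeff t ((X 0 : MvPolynomial (Fin 3) Q) ^ a * X 1 ^ b * X 2 ^ e) =
        if a = i ∧ b = j ∧ e = l then 1 else 0 := by
      intro a b e
      rw [X_pow_eq_monomial, X_pow_eq_monomial, X_pow_eq_monomial, monomial_mul, monomial_mul,
        mul_one, mul_one, coeff_monomial]
      refine if_congr ⟨fun h => ?_, fun ⟨h1, h2, h3⟩ => by rw [h1, h2, h3]⟩ rfl rfl
      exact ⟨by simpa [ht.1] using DFunLike.congr_fun h 0,
        by simpa [ht.2.1] using DFunLike.congr_fun h 1, by simpa [ht.2.2] using DFunLike.congr_fun h 2⟩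
    have k1 : ∀ a b : ℕ, coeff t ((X 1 : MvPolynomial (Fin 3) Q) ^ a * X 2 ^ b) = 0 := fun a b => by
      rw [← one_mul ((X 1 : MvPolynomial (Fin 3) Q) ^ a), ← pow_zero (X 0 : MvPolynomial (Fin 3) Q),
        hmon3, if_neg (by omega)]
    have k2 : ∀ a b : ℕ, coeff t ((X 0 : MvPolynomial (Fin 3) Q) ^ a * X 1 ^ b) = 0 := fun a b => by
      rw [← mul_one ((X 0 : MvPolynomial (Fin 3) Q) ^ a * X 1 ^ b), ← pow_zero (X 2 : MvPolynomial (Fin 3) Q),
        hmon3, if_neg (by omega)]
    have k3 : ∀ a b : ℕ, coeff t ((X 0 : MvPolynomial (Fin 3) Q) ^ a * (X 1 + X 2) ^ b) =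
        if a = i ∧ b = j + l then ((Nat.choose (j + l) j : ℕ) : Q) else 0 := fun a b => by
      rw [add_pow, Finset.mul_sum, coeff_sum]
      have : ∀ m, coeff t ((X 0 : MvPolynomial (Fin 3) Q) ^ a * (X 1 ^ m * X 2 ^ (b - m) *
          ((Nat.choose b m : ℕ) : MvPolynomial (Fin 3) Q))) =
          (if a = i ∧ m = j ∧ b - m = l then 1 else 0) * ((Nat.choose b m : ℕ) : Q) := fun m => by
        rw [← hmon3, ← map_natCast (C : Q →+* MvPolynomial (Fin 3) Q), ← mul_assoc, ← mul_assoc,
          mul_comm _ (C _), coeff_C_mul, mul_comm]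
      rw [Finset.sum_congr rfl fun m _ => this m]
      by_cases h : a = i ∧ b = j + l
      · rw [if_pos h, Finset.sum_eq_single j]
        · rw [if_pos ⟨h.1, rfl, by omega⟩, one_mul, h.2]
        · intro m _ hm; rw [if_neg (fun h' => hm h'.2.1), zero_mul]
        · intro hm; exact absurd (Finset.mem_range.2 (by omega)) hm
      · rw [if_neg h]
        refine Finset.sum_eq_zero fun m hm => by
          rw [if_neg, zero_mul]
          rintro ⟨h1, h2, h3⟩
          exact h ⟨h1, by omega⟩
    have k4 : ∀ a b : ℕ, coeff t (((X 0 : MvPolynomial (Fin 3) Q) + X 1) ^ a * X 2 ^ b) =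
        if a = i + j ∧ b = l then ((Nat.choose (i + j) i : ℕ) : Q) else 0 := fun a b => by
      rw [add_pow, Finset.sum_mul, coeff_sum]
      have : ∀ m, coeff t ((X 0 : MvPolynomial (Fin 3) Q) ^ m * X 1 ^ (a - m) *
          ((Nat.choose a m : ℕ) : MvPolynomial (Fin 3) Q) * X 2 ^ b) =
          (if m = i ∧ a - m = j ∧ b = l then 1 else 0) * ((Nat.choose a m : ℕ) : Q) := fun m => by
        rw [← hmon3, ← map_natCast (C : Q →+* MvPolynomial (Fin 3) Q), mul_comm _ (C _), mul_assoc,
          coeff_C_mul, mul_comm]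
      rw [Finset.sum_congr rfl fun m _ => this m]
      by_cases h : a = i + j ∧ b = l
      · rw [if_pos h, Finset.sum_eq_single i]
        · rw [if_pos ⟨rfl, by omega, h.2⟩, one_mul, h.1]
        · intro m _ hm; rw [if_neg (fun h' => hm h'.1), zero_mul]
        · intro hm; exact absurd (Finset.mem_range.2 (by omega)) hm
      · rw [if_neg h]
        refine Finset.sum_eq_zero fun m hm => by
          rw [if_neg, zero_mul]
          rintro ⟨h1, h2, h3⟩
          exact h ⟨by omega, h3⟩
    have h := congrArg (coeff t) hadd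
    rw [MvPolynomial.as_sum c] at h
    simp only [map_sum, hmon, MvPolynomial.algebraMap_eq, coeff_add, coeff_sum, coeff_C_mul, k1, k2,
      k3, k4, mul_zero, Finset.sum_const_zero, zero_add, add_zero, mul_ite] at h
    have key : ∀ (a b : ℕ) (r : Q), (∑ s ∈ c.support, if s 0 = a ∧ s 1 = b then coeff s c * r else 0) =
        co c a b * r := fun a b r => by
      rw [Finset.sum_eq_single (Finsupp.single 0 a + Finsupp.single 1 b)]
      · simp [co]
      · intro s _ hne
        refine if_neg fun ⟨h0, h1⟩ => hne ?_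
        ext x; fin_cases x <;> simp [h0, h1]
      · intro hns
        simp [notMem_support_iff.1 hns]
    rw [key, key] at h
    rw [mul_comm, ← h, mul_comm]

section Char

variable {p : ℕ} [hp : Fact p.Prime] (ι : ZMod p →+* Q)

theorem isCocycle_of_rel {c : MvPolynomial (Fin 2) Q} (h : Rel c) (d : ℕ) :
    letI := ι.toModule
    IsCocycle (p := p) d fun i => co c i (d - i) := by
  letI := ι.toModule
  refine ⟨fun i j hi hj hij => ?_, fun i hi hid => ?_⟩
  · show ι _ * co c (i + j) (d - (i + j)) = ι _ * co c i (d - i)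
    rw [map_natCast, map_natCast]
    have := h.rel i j (d - (i + j)) hi hj (by omega)
    rwa [show j + (d - (i + j)) = d - i by omega] at this
  · show co c (d - i) (d - (d - i)) = co c i (d - i)
    rw [show d - (d - i) = i by omega, h.symm]

theorem co_mem {J : Ideal Q} {c : MvPolynomial (Fin 2) Q} (hc : c ∈ J.map C) (i j : ℕ) : co c i j ∈ J :=
  mem_map_C_iff.1 hc _

theorem mem_of_co {J : Ideal Q} {c : MvPolynomial (Fin 2) Q} (h : ∀ i j, co c i j ∈ J) : c ∈ J.map C := by
  refine mem_map_C_iff.2 fun s => ?_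
  have : Finsupp.single 0 (s 0) + Finsupp.single 1 (s 1) = s := by
    ext a; fin_cases a <;> simp
  rw [← this]
  exact h _ _

include ι in
/-- Cocycles without components in degrees a power of `p` are coboundaries. -/
theorem solvable_of_nonpow {J : Ideal Q} (hJ : J * J = ⊥) (N : ℕ) :
    ∀ c : MvPolynomial (Fin 2) Q, c ∈ J.map C → Rel c →
      (∀ i j k, i + j = p ^ k → co c i j = 0) → (∀ i j, N ≤ i + j → co c i j = 0) →
      Solvable (1 + c) := by
  induction N with
  | zero =>
    intro c _ _ _ hN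
    rw [show c = 0 from co_ext fun i j => by rw [hN i j (Nat.zero_le _)]; simp [co], add_zero]
    exact solvable_one
  | succ N ih =>
    intro c hc hr hpow hN
    by_cases hz : ∀ i j, i + j = N → co c i j = 0
    · refine ih c hc hr hpow fun i j hij => ?_
      rcases eq_or_lt_of_le hij with h | h
      · exact hz i j h.symm
      · exact hN i j h
    have hN0 : N ≠ 0 := by
      rintro rfl
      exact hz fun i j hij => by
        obtain ⟨rfl, rfl⟩ : i = 0 ∧ j = 0 := by omega
        exact hr.zero 0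
    have hNp : ∀ k, N ≠ p ^ k := fun k h => hz fun i j hij => hpow i j k (hij.trans h)
    letI := ι.toModule
    obtain ⟨v, t, hd, ht, hφ⟩ := (isCocycle_of_rel ι hr N).exists_coboundary hN0 hNp
    set a := ι ((t : ZMod p)⁻¹) * co c (p ^ v) (N - p ^ v)
    have haJ : a ∈ J := J.mul_mem_left _ (co_mem hc _ _)
    have haa : a * a = 0 := by
      have := Ideal.mul_mem_mul haJ haJ
      rwa [hJ, Ideal.mem_bot] at this
    have hCa : C a * delta N ∈ J.map (C : Q →+* MvPolynomial (Fin 2) Q) :=
      Ideal.mul_mem_right _ _ (Ideal.mem_map_of_mem _ haJ)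
    have hsol : Solvable (1 + C a * delta N : MvPolynomial (Fin 2) Q) := solvable_delta haa hN0
    have hr' : Rel (c - C a * delta N) := hr.sub (hsol.good.rel hJ hCa)
    have hco : ∀ i j, i + j ≠ N → co (c - C a * delta N) i j = co c i j := by
      intro i j hij
      rcases Nat.eq_zero_or_pos i with rfl | hi
      · rw [hr'.co_zero_left, hr.co_zero_left]
      rcases Nat.eq_zero_or_pos j with rfl | hj
      · rw [hr'.zero, hr.zero]
      rw [co_sub, co_C_mul, co_delta _ _ _ hi hj, if_neg hij, mul_zero, sub_zero]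
    have hkill : ∀ i j, i + j = N → co (c - C a * delta N) i j = 0 := by
      intro i j hij
      rcases Nat.eq_zero_or_pos i with rfl | hi
      · exact hr'.co_zero_left j
      rcases Nat.eq_zero_or_pos j with rfl | hj
      · exact hr'.zero i
      have h : co c i (N - i) = ι ((Nat.choose N i : ℕ) : ZMod p) * a := hφ i hi (by omega)
      rw [show N - i = j by omega, map_natCast] at h
      rw [co_sub, co_C_mul, co_delta _ _ _ hi hj, if_pos hij, h, mul_comm a, sub_self]
    have hrec := ih (c - C a * delta N) (sub_mem hc hCa) hr'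
      (fun i j k hk => by
        rw [hco i j (fun h => hNp k (h.symm.trans hk))]
        exact hpow i j k hk)
      (fun i j hij => by
        rcases eq_or_lt_of_le hij with h | h
        · exact hkill i j h.symm
        · rw [hco i j (by omega)]
          exact hN i j h)
    have := hsol.mul hrec
    have hm := mul_eq_zero_of_mem hJ hCa (sub_mem hc hCa)
    rwa [show (1 + C a * delta N) * (1 + (c - C a * delta N)) = 1 + c by linear_combination hm] at this

section Exp

omit hp in
theorem co_aeval_zero (g : Polynomial Q) :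
    co (Polynomial.aeval (X 0 : MvPolynomial (Fin 2) Q) g) 0 0 = g.coeff 0 := by
  have : constantCoeff (Polynomial.aeval (X 0 : MvPolynomial (Fin 2) Q) g) = g.coeff 0 := by
    rw [Polynomial.aeval_def, Polynomial.hom_eval₂, constantCoeff_X, Polynomial.eval₂_at_zero]
    simp
  simpa [co, constantCoeff_eq] using this

variable (p) in
/-- The truncated exponential. -/
noncomputable def tExp : Polynomial (ZMod p) :=
  ∑ n ∈ Finset.range p, Polynomial.C ((n.factorial : ZMod p))⁻¹ * Polynomial.X ^ n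

variable (p) in
/-- Its truncated inverse. -/
noncomputable def tInv : Polynomial (ZMod p) := ∑ l ∈ Finset.range (2 * p), (1 - tExp p) ^ l

theorem coeff_tExp (n : ℕ) :
    (tExp p).coeff n = if n < p then ((n.factorial : ZMod p))⁻¹ else 0 := by
  rw [tExp, Polynomial.finset_sum_coeff]
  simp [Polynomial.coeff_C_mul, Polynomial.coeff_X_pow]

theorem X_dvd_one_sub_tExp : (Polynomial.X : Polynomial (ZMod p)) ∣ 1 - tExp p := by
  rw [Polynomial.X_dvd_iff, Polynomial.coeff_sub, coeff_tExp, if_pos hp.out.pos]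
  simp

theorem X_pow_dvd_tExp_mul_tInv :
    (Polynomial.X : Polynomial (ZMod p)) ^ (2 * p) ∣ 1 - tExp p * tInv p := by
  have h := mul_neg_geom_sum (1 - tExp p) (2 * p)
  rw [sub_sub_cancel] at h
  rw [tInv, h, sub_sub_cancel]
  exact pow_dvd_pow_of_dvd X_dvd_one_sub_tExp _

theorem co_aeval (E : Polynomial (ZMod p)) (i j : ℕ) :
    co (Polynomial.aeval (X 0 + X 1 : MvPolynomial (Fin 2) (ZMod p)) E) i j =
        E.coeff (i + j) * ((Nat.choose (i + j) i : ℕ) : ZMod p) ∧
    co (Polynomial.aeval (X 0 : MvPolynomial (Fin 2) (ZMod p)) E *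
        Polynomial.aeval (X 1 : MvPolynomial (Fin 2) (ZMod p)) E) i j = E.coeff i * E.coeff j := by
  classical
  have hs : ∀ u : MvPolynomial (Fin 2) (ZMod p), Polynomial.aeval u E =
      ∑ n ∈ E.support, C (E.coeff n) * u ^ n := fun u => by
    rw [Polynomial.aeval_def, Polynomial.eval₂_eq_sum]
    rfl
  constructor
  · rw [hs, co, coeff_sum]
    have : ∀ n ∈ E.support, coeff (Finsupp.single 0 i + Finsupp.single 1 j)
        (C (E.coeff n) * (X 0 + X 1 : MvPolynomial (Fin 2) (ZMod p)) ^ n) =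
        if i + j = n then E.coeff n * ((Nat.choose n i : ℕ) : ZMod p) else 0 := fun n _ => by
      rw [coeff_C_mul, show coeff (Finsupp.single 0 i + Finsupp.single 1 j)
        ((X 0 + X 1 : MvPolynomial (Fin 2) (ZMod p)) ^ n) = _ from co_add_pow n i j, mul_ite, mul_zero]
    rw [Finset.sum_congr rfl this, Finset.sum_ite_eq]
    split_ifs with h
    · rfl
    · rw [Polynomial.notMem_support_iff.1 h, zero_mul]
  · rw [hs, hs, Finset.sum_mul_sum, co, coeff_sum]
    simp only [coeff_sum]
    have : ∀ m n, coeff (Finsupp.single 0 i + Finsupp.single 1 j)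
        (C (E.coeff m) * (X 0 : MvPolynomial (Fin 2) (ZMod p)) ^ m * (C (E.coeff n) * X 1 ^ n)) =
        if m = i ∧ n = j then E.coeff m * E.coeff n else 0 := fun m n => by
      rw [show C (E.coeff m) * (X 0 : MvPolynomial (Fin 2) (ZMod p)) ^ m * (C (E.coeff n) * X 1 ^ n) =
        C (E.coeff m * E.coeff n) * X 0 ^ m * X 1 ^ n by rw [map_mul]; ring]
      exact co_monomial _ _ _ _ _
    simp only [this, ite_and]
    simp only [Finset.sum_ite_irrel, Finset.sum_const_zero, Finset.sum_ite_eq']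
    split_ifs with h1 h2
    · rfl
    · rw [Polynomial.notMem_support_iff.1 h2, mul_zero]
    · rw [Polynomial.notMem_support_iff.1 h1, zero_mul]

theorem mem_vars_pow {w : MvPolynomial (Fin 2) (ZMod p)} {n : ℕ} :
    w ∈ idealOfVars (Fin 2) (ZMod p) ^ n ↔ ∀ i j, i + j < n → co w i j = 0 := by
  rw [mem_pow_idealOfVars_iff']
  constructor
  · intro h i j hij
    refine h _ ?_
    simpa [map_add, Finsupp.degree_single] using hij
  · intro h s hs
    have e : Finsupp.single 0 (s 0) + Finsupp.single 1 (s 1) = s := by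
      ext a; fin_cases a <;> simp
    rw [← e]
    refine h _ _ ?_
    rw [← e] at hs
    simpa [map_add, Finsupp.degree_single] using hs

/-- The universal coboundary of the truncated exponential. -/
theorem co_universal :
    co (dlt (tExp p) (tInv p)) 0 0 = 1 ∧
      (∀ i j, i + j ≠ 0 → i + j < p → co (dlt (tExp p) (tInv p)) i j = 0) ∧
      co (dlt (tExp p) (tInv p)) 1 (p - 1) ≠ 0 := by
  let M := idealOfVars (Fin 2) (ZMod p)
  let S := Polynomial.aeval (X 0 + X 1 : MvPolynomial (Fin 2) (ZMod p)) (tExp p)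
  let E := fun i : Fin 2 => Polynomial.aeval (X i : MvPolynomial (Fin 2) (ZMod p)) (tExp p)
  let G := fun i : Fin 2 => Polynomial.aeval (X i : MvPolynomial (Fin 2) (ZMod p)) (tInv p)
  let D := E 0 * E 1 - S
  have hEG : ∀ i, E i * G i - 1 ∈ M ^ (p + 1) := by
    intro i
    obtain ⟨U, hU⟩ := map_dvd (Polynomial.aeval (X i : MvPolynomial (Fin 2) (ZMod p)))
      (X_pow_dvd_tExp_mul_tInv (p := p))
    rw [map_sub, map_one, map_mul, map_pow, Polynomial.aeval_X] at hU
    rw [show E i * G i - 1 = -(X i ^ (2 * p) * U) by rw [← hU]; ring]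
    exact neg_mem (Ideal.mul_mem_right _ _ (Ideal.pow_le_pow_right (by have := hp.out.two_le; omega)
      (Ideal.pow_mem_pow (Ideal.subset_span (Set.mem_range_self i)) _)))
  have hfac : ∀ n, n < p → ((n.factorial : ZMod p)) ≠ 0 := fun n hn h => by
    rw [ZMod.natCast_eq_zero_iff, hp.out.dvd_factorial] at h
    omega
  have hD : ∀ i j, i + j ≤ p → co D i j = if i + j = p ∧ 1 ≤ i ∧ 1 ≤ j then
      ((i.factorial : ZMod p))⁻¹ * ((j.factorial : ZMod p))⁻¹ else 0 := by
    intro i j hij
    show co (E 0 * E 1 - S) i j = _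
    rw [co_sub, (co_aeval (tExp p) i j).1, (co_aeval (tExp p) i j).2, coeff_tExp, coeff_tExp,
      coeff_tExp]
    by_cases h : i + j < p
    · rw [if_pos h, if_pos (by omega), if_pos (by omega), if_neg (by omega), sub_eq_zero]
      have hc := congrArg (fun n : ℕ => (n : ZMod p)) (Nat.add_choose_mul_factorial_mul_factorial i j)
      simp only [Nat.cast_mul] at hc
      rw [← Nat.choose_symm_add] at hc
      field_simp [hfac i (by omega), hfac j (by omega), hfac (i + j) h]
      linear_combination -hc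
    · rw [if_neg h, zero_mul, sub_zero]
      by_cases hi : i < p
      · by_cases hj : j < p
        · rw [if_pos hi, if_pos hj, if_pos ⟨by omega, by omega, by omega⟩]
        · rw [if_neg hj, mul_zero, if_neg (by omega)]
      · rw [if_neg hi, zero_mul, if_neg (by omega)]
  have hDM : D ∈ M ^ p := mem_vars_pow.2 fun i j hij => by rw [hD i j hij.le, if_neg (by omega)]
  have hG : G 0 * G 1 - 1 ∈ M := by
    have h1 : ∀ i, E i - 1 ∈ M := fun i => by
      obtain ⟨U, hU⟩ := map_dvd (Polynomial.aeval (X i : MvPolynomial (Fin 2) (ZMod p)))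
        (X_dvd_one_sub_tExp (p := p))
      rw [map_sub, map_one, Polynomial.aeval_X] at hU
      rw [show E i - 1 = -(X i * U) by rw [← hU]; ring]
      exact neg_mem (Ideal.mul_mem_right _ _ (Ideal.subset_span ⟨i, rfl⟩))
    have h2 : ∀ i, G i - 1 ∈ M := fun i => by
      rw [show G i - 1 = (E i * G i - 1) - (E i - 1) * G i by ring]
      exact sub_mem (Ideal.pow_le_self (by omega) (hEG i)) (Ideal.mul_mem_right _ _ (h1 i))
    rw [show G 0 * G 1 - 1 = (G 0 - 1) * G 1 + (G 1 - 1) by ring]
    exact add_mem (Ideal.mul_mem_right _ _ (h2 0)) (h2 1)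
  have hrem : dlt (tExp p) (tInv p) - (1 - D) ∈ M ^ (p + 1) := by
    show S * G 0 * G 1 - (1 - D) ∈ _
    rw [show S * G 0 * G 1 - (1 - D) = (E 0 * G 0 - 1) * (E 1 * G 1) + (E 1 * G 1 - 1)
      - D * (G 0 * G 1 - 1) by ring]
    refine sub_mem (add_mem (Ideal.mul_mem_right _ _ (hEG 0)) (hEG 1)) ?_
    rw [pow_succ]
    exact Ideal.mul_mem_mul hDM hG
  have hco : ∀ i j, i + j ≤ p → co (dlt (tExp p) (tInv p)) i j =
      (if i = 0 ∧ j = 0 then 1 else 0) - co D i j := by
    intro i j hij
    have h := mem_vars_pow.1 hrem i j (by omega)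
    rw [co_sub, co_sub, sub_eq_zero] at h
    rw [h]
    congr 1
    have := co_monomial (1 : ZMod p) 0 0 i j
    rw [map_one, pow_zero, mul_one, pow_zero, mul_one] at this
    rw [this]
    exact if_congr (by omega) rfl rfl
  have h2 := hp.out.two_le
  refine ⟨by rw [hco 0 0 (by omega), hD 0 0 (by omega)]; simp [hp.out.ne_zero.symm], fun i j h0 hlt => ?_, ?_⟩
  · rw [hco i j hlt.le, hD i j hlt.le, if_neg (by omega), if_neg (by omega), sub_zero]
  · rw [hco 1 (p - 1) (by omega), hD 1 (p - 1) (by omega), if_neg (by omega), if_pos (by omega), zero_sub,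
      neg_ne_zero]
    exact mul_ne_zero (inv_ne_zero (hfac 1 (by omega))) (inv_ne_zero (hfac _ (by omega)))

end Exp

/-- Substitution `X ↦ b X ^ q` in one variable. -/
noncomputable def sub1 (b : Q) (q : ℕ) : Polynomial (ZMod p) →+* Polynomial Q :=
  Polynomial.eval₂RingHom (Polynomial.C.comp ι) (Polynomial.C b * Polynomial.X ^ q)

/-- Substitution `X ↦ b X ^ q` in two variables. -/
noncomputable def sub2 (b : Q) (q : ℕ) : MvPolynomial (Fin 2) (ZMod p) →+* MvPolynomial (Fin 2) Q :=
  eval₂Hom (C.comp ι) fun i => C b * X i ^ q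

include ι in
theorem add_pow_pow {σ : Type} (x y : MvPolynomial σ Q) (k : ℕ) :
    (x + y) ^ p ^ k = x ^ p ^ k + y ^ p ^ k := by
  obtain ⟨r, hr⟩ := exists_add_pow_prime_pow_eq hp.out x y k
  have hp0 : (p : MvPolynomial σ Q) = 0 := by
    rw [← map_natCast ((C : Q →+* MvPolynomial σ Q).comp ι), ZMod.natCast_self, map_zero]
  rw [hr, hp0, zero_mul, zero_mul, zero_mul, add_zero]

theorem sub2_dlt (b : Q) (k : ℕ) (f g : Polynomial (ZMod p)) :
    sub2 ι b (p ^ k) (dlt f g) = dlt (sub1 ι b (p ^ k) f) (sub1 ι b (p ^ k) g) := by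
  have key : ∀ (u : MvPolynomial (Fin 2) (ZMod p)) (w : MvPolynomial (Fin 2) Q),
      sub2 ι b (p ^ k) u = C b * w ^ p ^ k → ∀ e : Polynomial (ZMod p),
      sub2 ι b (p ^ k) (Polynomial.aeval u e) = Polynomial.aeval w (sub1 ι b (p ^ k) e) := by
    intro u w hu e
    induction e using Polynomial.induction_on' with
    | add e e' he he' => simp only [map_add, he, he']
    | monomial n r =>
      rw [← Polynomial.C_mul_X_pow_eq_monomial]
      simp only [map_mul, map_pow, Polynomial.aeval_C, Polynomial.aeval_X, hu]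
      congr 1
      · simp [sub1, sub2]
      · simp [sub1, Polynomial.aeval_def]
  simp only [dlt, map_mul]
  rw [key _ (X 0 + X 1) ?_, key _ (X 0) ?_, key _ (X 1) ?_]
  · simp [sub2]
  · simp [sub2]
  · rw [add_pow_pow ι]
    simp [sub2, mul_add]

theorem co_sub2 (b : Q) {q : ℕ} (hq : q ≠ 0) (w : MvPolynomial (Fin 2) (ZMod p)) (i j : ℕ) :
    co (sub2 ι b q w) i j =
      if q ∣ i ∧ q ∣ j then ι (co w (i / q) (j / q)) * b ^ (i / q + j / q) else 0 := by
  classical
  have hterm : ∀ s : Fin 2 →₀ ℕ, co (sub2 ι b q (monomial s (coeff s w))) i j =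
      if q * s 0 = i ∧ q * s 1 = j then ι (coeff s w) * b ^ (s 0 + s 1) else 0 := fun s => by
    rw [sub2, coe_eval₂Hom, eval₂_monomial, Finsupp.prod_fintype _ _ (fun i => pow_zero _),
      Fin.prod_univ_two, show (C.comp ι) (coeff s w) * ((C b * (X 0 : MvPolynomial (Fin 2) Q) ^ q) ^ s 0 *
        (C b * X 1 ^ q) ^ s 1) = C (ι (coeff s w) * b ^ (s 0 + s 1)) * X 0 ^ (q * s 0) * X 1 ^ (q * s 1) by
      simp only [RingHom.comp_apply, map_mul, map_pow, pow_mul]; ring]
    exact co_monomial _ _ _ _ _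
  conv_lhs => rw [MvPolynomial.as_sum w, map_sum, co, coeff_sum]
  simp only [co] at hterm ⊢
  rw [Finset.sum_congr rfl fun s _ => hterm s]
  by_cases h : q ∣ i ∧ q ∣ j
  · rw [if_pos h, Finset.sum_eq_single (Finsupp.single 0 (i / q) + Finsupp.single 1 (j / q))]
    · rw [if_pos]
      · simp [co]
      · simp [Nat.mul_div_cancel' h.1, Nat.mul_div_cancel' h.2]
    · intro s _ hne
      refine if_neg fun ⟨h0, h1⟩ => hne ?_
      ext a
      fin_cases a
      · simp [← h0, Nat.mul_div_cancel_left _ (Nat.pos_of_ne_zero hq)]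
      · simp [← h1, Nat.mul_div_cancel_left _ (Nat.pos_of_ne_zero hq)]
    · intro hns
      simp [notMem_support_iff.1 hns]
  · rw [if_neg h]
    exact Finset.sum_eq_zero fun s _ => if_neg fun ⟨h0, h1⟩ => h ⟨⟨_, h0.symm⟩, ⟨_, h1.symm⟩⟩

include ι in
/-- A coboundary with a prescribed leading coefficient in degree a power of `p`. -/
theorem exists_solvable_pow {J : Ideal Q} (hJ : J * J = ⊥) (hF : ∀ a : Q, ∃ b, b ^ p = a)
    {a : Q} (ha : a ∈ J) (k : ℕ) :
    ∃ u : MvPolynomial (Fin 2) Q, u ∈ J.map C ∧ Solvable (1 + u) ∧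
      co u (p ^ k) (p ^ (k + 1) - p ^ k) = a ∧
      ∀ i j l, i + j = p ^ l → l ≠ k + 1 → co u i j = 0 := by
  obtain ⟨hw0, hwlt, hwp⟩ := co_universal (p := p)
  set w := co (dlt (tExp p) (tInv p)) 1 (p - 1)
  obtain ⟨b, hb⟩ := hF (a * ι w⁻¹)
  have hbJ : ∀ n, p ≤ n → b ^ n ∈ J := fun n hn => by
    rw [← Nat.add_sub_cancel' hn, pow_add, hb]
    exact J.mul_mem_right _ (J.mul_mem_right _ ha)
  have hb2 : ∀ n, 2 * p ≤ n → b ^ n = 0 := fun n hn => by
    have h := Ideal.mul_mem_mul (hbJ p le_rfl) (hbJ p le_rfl)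
    rw [hJ, Ideal.mem_bot, ← pow_add] at h
    rw [← Nat.add_sub_cancel' hn, pow_add, two_mul, h, zero_mul]
  have hfg : sub1 ι b (p ^ k) (tExp p) * sub1 ι b (p ^ k) (tInv p) = 1 := by
    obtain ⟨U, hU⟩ := map_dvd (sub1 ι b (p ^ k)) (X_pow_dvd_tExp_mul_tInv (p := p))
    rw [map_sub, map_one, map_mul, map_pow] at hU
    have : sub1 ι b (p ^ k) Polynomial.X ^ (2 * p) = 0 := by
      simp [sub1, mul_pow, ← Polynomial.C_pow, hb2 _ le_rfl]
    rw [this, zero_mul, sub_eq_zero] at hU
    exact hU.symm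
  have hq0 : p ^ k ≠ 0 := pow_ne_zero _ hp.out.ne_zero
  have h0 : (sub1 ι b (p ^ k) (tExp p)).coeff 0 = 1 := by
    obtain ⟨U, hU⟩ := map_dvd (sub1 ι b (p ^ k)) (X_dvd_one_sub_tExp (p := p))
    rw [map_sub, map_one] at hU
    have hc := congrArg (fun e => Polynomial.coeff e 0) hU
    simp [sub1, Polynomial.mul_coeff_zero, zero_pow hq0] at hc
    rw [if_neg (Ne.symm hq0)] at hc
    exact (sub_eq_zero.1 hc).symm
  have hsol : Solvable (sub2 ι b (p ^ k) (dlt (tExp p) (tInv p))) :=
    ⟨_, _, hfg, h0, sub2_dlt ι b k _ _⟩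
  set W := sub2 ι b (p ^ k) (dlt (tExp p) (tInv p))
  have hu : ∀ i j, co (W - 1) i j = if p ^ k ∣ i ∧ p ^ k ∣ j ∧ (i ≠ 0 ∨ j ≠ 0) then
      ι (co (dlt (tExp p) (tInv p)) (i / p ^ k) (j / p ^ k)) * b ^ (i / p ^ k + j / p ^ k) else 0 := by
    intro i j
    have h1 : co (1 : MvPolynomial (Fin 2) Q) i j = if i = 0 ∧ j = 0 then 1 else 0 := by
      have := co_monomial (1 : Q) 0 0 i j
      rw [map_one, pow_zero, mul_one, pow_zero, mul_one] at this
      rw [this]; exact if_congr (by omega) rfl rfl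
    rw [co_sub, co_sub2 ι b hq0, h1]
    by_cases h : i = 0 ∧ j = 0
    · obtain ⟨rfl, rfl⟩ := h
      simp [hw0]
    · rw [if_neg h, sub_zero]
      exact if_congr (by tauto) rfl rfl
  refine ⟨W - 1, mem_of_co fun i j => ?_, by rwa [add_sub_cancel], ?_, fun i j l hl hlk => ?_⟩
  · rw [hu]
    split_ifs with h
    · by_cases hlt : i / p ^ k + j / p ^ k < p
      · rw [hwlt _ _ ?_ hlt, map_zero, zero_mul]; exact J.zero_mem
        intro hsum
        obtain ⟨h4, h5⟩ := Nat.add_eq_zero_iff.1 hsum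
        have h1 := Nat.mul_div_cancel' h.1
        have h2 := Nat.mul_div_cancel' h.2.1
        rw [h4, mul_zero] at h1
        rw [h5, mul_zero] at h2
        rcases h.2.2 with h3 | h3 <;> omega
      · exact J.mul_mem_left _ (hbJ _ (by omega))
    · exact J.zero_mem
  · have h1 : p ^ (k + 1) - p ^ k = p ^ k * (p - 1) := by rw [pow_succ, Nat.mul_sub, mul_one]
    rw [hu, h1, if_pos ⟨dvd_rfl, Dvd.intro _ rfl, Or.inl hq0⟩, Nat.div_self (Nat.pos_of_ne_zero hq0),
      Nat.mul_div_cancel_left _ (Nat.pos_of_ne_zero hq0),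
      show 1 + (p - 1) = p by have := hp.out.two_le; omega, hb, mul_left_comm, ← map_mul,
      mul_inv_cancel₀ hwp, map_one, mul_one]
  · rw [hu]
    split_ifs with h
    · obtain ⟨⟨i', rfl⟩, ⟨j', rfl⟩, hne⟩ := h
      rw [Nat.mul_div_cancel_left _ (Nat.pos_of_ne_zero hq0),
        Nat.mul_div_cancel_left _ (Nat.pos_of_ne_zero hq0)]
      rw [← mul_add] at hl
      obtain ⟨e, he⟩ : ∃ e, i' + j' = p ^ e := by
        obtain ⟨e, _, he⟩ := (Nat.dvd_prime_pow hp.out).1 (⟨p ^ k, by rw [← hl, mul_comm]⟩ : i' + j' ∣ p ^ l)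
        exact ⟨e, he⟩
      have hl' : l = k + e := Nat.pow_right_injective hp.out.two_le (by simp only; rw [← hl, he, pow_add])
      rcases e with _ | _ | e
      · rw [hwlt i' j' (by rw [he]; simp) (by rw [he]; simpa using hp.out.one_lt), map_zero, zero_mul]
      · exact absurd hl' hlk
      · rw [he, hb2 _ ?_, mul_zero]
        calc 2 * p ≤ p * p := Nat.mul_le_mul_right _ hp.out.two_le
          _ = p ^ 2 := (sq p).symm
          _ ≤ p ^ (e + 1 + 1) := Nat.pow_le_pow_right hp.out.pos (by omega)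
    · rfl

include ι in
/-- The square-zero case. -/
theorem solvable_sq_zero {J : Ideal Q} (hJ : J * J = ⊥) (hF : ∀ a : Q, ∃ b, b ^ p = a) (N : ℕ) :
    ∀ c : MvPolynomial (Fin 2) Q, c ∈ J.map C → Rel c →
      (∀ i j k, N ≤ k → i + j = p ^ k → co c i j = 0) → Solvable (1 + c) := by
  induction N with
  | zero =>
    intro c hc hr hN
    exact solvable_of_nonpow ι hJ (c.totalDegree + 1) c hc hr (fun i j k => hN i j k (Nat.zero_le k))
      fun i j hij => coeff_eq_zero_of_totalDegree_lt (lt_of_lt_of_le (Nat.lt_of_succ_le hij) (le_of_eq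
        (by rw [← Finsupp.degree_apply, map_add, Finsupp.degree_single, Finsupp.degree_single])))
  | succ N ih =>
    intro c hc hr hN
    rcases N with _ | k
    · refine ih c hc hr fun i j l _ hl => ?_
      rcases l with _ | l
      · rcases i with _ | i
        · exact hr.co_zero_left j
        · obtain rfl : j = 0 := by simp at hl; omega
          exact hr.zero _
      · exact hN i j (l + 1) (by omega) hl
    obtain ⟨u, huJ, hsol, hlead, hoff⟩ :=
      exists_solvable_pow ι hJ hF (co_mem hc (p ^ k) (p ^ (k + 1) - p ^ k)) k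
    have hr' : Rel (c - u) := hr.sub (hsol.good.rel hJ huJ)
    have hrec := ih (c - u) (sub_mem hc huJ) hr' fun i j l hl hij => by
      by_cases hlk : l = k + 1
      · subst hlk
        rcases Nat.eq_zero_or_pos i with rfl | hi
        · exact hr'.co_zero_left j
        rcases Nat.eq_zero_or_pos j with rfl | hj
        · exact hr'.zero i
        letI := ι.toModule
        have hd : p ^ (k + 1) = p ^ k * p := pow_succ p k
        have hz := isCocycle_of_rel ι hr' (p ^ (k + 1))
        rw [hd] at hz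
        have h := hz.eq_zero hp.out.two_le (Or.inr rfl) (by
          show co (c - u) _ _ = 0
          rw [co_sub, ← hd, hlead, sub_self]) i hi (by omega)
        have h' : co (c - u) i (p ^ k * p - i) = 0 := h
        rwa [show p ^ k * p - i = j by omega] at h'
      · rw [co_sub, hoff i j l hij hlk, sub_zero]
        exact hN i j l (by omega) hij
    have := hsol.mul hrec
    have hm := mul_eq_zero_of_mem hJ huJ (sub_mem hc huJ)
    rwa [show (1 + u) * (1 + (c - u)) = 1 + c by linear_combination hm] at this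

end Char

end Groth.Agent.GaSplit
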