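import Mathlib

/-! Lazard's lemma on symmetric additive cocycles of one degree in characteristic `p`. -/

set_option autoImplicit false

universe u

namespace Groth.Agent.GaSplit

variable {p : ℕ} [hp : Fact p.Prime]

theorem choose_cast_congr {a b : ℕ} (h : (a : ℤ) ≡ (b : ℤ) [ZMOD p]) : (a : ZMod p) = (b : ZMod p) := by
  have := (ZMod.intCast_eq_intCast_iff (a : ℤ) (b : ℤ) p).2 h
  exact_mod_cast this

theorem choose_pow_mul_add (v t r : ℕ) (hr : r < p ^ v) :
    ((Nat.choose (p ^ v * t + r) r : ℕ) : ZMod p) = 1 := by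
  rw [choose_cast_congr (Choose.choose_modEq_choose_mul_prod_range_choose (p := p) v)]
  rw [Nat.div_eq_of_lt hr, Nat.choose_zero_right, one_mul, Nat.cast_prod]
  refine Finset.prod_eq_one fun i hi => ?_
  have hiv := Finset.mem_range.1 hi
  obtain ⟨s, hs⟩ : ∃ s, p ^ v * t = p ^ i * (p * s) :=
    ⟨p ^ (v - i - 1) * t, by
      rw [← mul_assoc, ← mul_assoc, ← pow_succ, ← pow_add]; congr 2; omega⟩
  have : (p ^ v * t + r) / p ^ i % p = r / p ^ i % p := by
    rw [hs, Nat.mul_add_div (pow_pos hp.out.pos i), Nat.mul_add_mod]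
  rw [this, Nat.choose_self, Nat.cast_one]

theorem choose_pow_mul_pow (v t : ℕ) :
    ((Nat.choose (p ^ v * t) (p ^ v) : ℕ) : ZMod p) = (t : ZMod p) := by
  have h := Choose.choose_pow_mul_pow_mul_modEq_choose (p := p) (k := v) (a := t) (b := 1)
  rw [mul_one, Nat.choose_one_right] at h
  exact choose_cast_congr h

theorem choose_pow_small {v e : ℕ} (h : e < v) :
    ((Nat.choose (p ^ v) (p ^ e) : ℕ) : ZMod p) = 0 :=
  (ZMod.natCast_eq_zero_iff _ p).2 (hp.out.dvd_choose_pow (pow_ne_zero _ hp.out.ne_zero)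
    (Nat.pow_lt_pow_right hp.out.one_lt h).ne)

variable {M : Type u} [AddCommGroup M] [Module (ZMod p) M]

/-- The degree-`d` relation of a symmetric cocycle. -/
structure IsCocycle (d : ℕ) (φ : ℕ → M) : Prop where
  rel : ∀ i j, 1 ≤ i → 1 ≤ j → i + j < d →
    ((Nat.choose (i + j) i : ℕ) : ZMod p) • φ (i + j) = ((Nat.choose (d - i) j : ℕ) : ZMod p) • φ i
  symm : ∀ i, 1 ≤ i → i < d → φ (d - i) = φ i

theorem smul_unit_eq_zero {c : ZMod p} (hc : c ≠ 0) {x : M} (h : c • x = 0) : x = 0 := by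
  have := congrArg (fun y => c⁻¹ • y) h
  simpa [smul_smul, inv_mul_cancel₀ hc] using this

theorem IsCocycle.eq_zero {v m : ℕ} (hm : 2 ≤ m) (hmp : ¬ p ∣ m ∨ m = p) {φ : ℕ → M}
    (h : IsCocycle (p := p) (p ^ v * m) φ) (h0 : φ (p ^ v) = 0) :
    ∀ i, 1 ≤ i → i < p ^ v * m → φ i = 0 := by
  set d := p ^ v * m with hd
  have h2 := hp.out.two_le
  have hpv : p ^ v < d := by
    rw [hd]; exact lt_mul_of_one_lt_right (pow_pos hp.out.pos v) (by omega)
  have hpow : ∀ e, p ^ e < d → φ (p ^ e) = 0 := by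
    intro e he
    rcases lt_trichotomy e v with hev | rfl | hev
    · have hlt := Nat.pow_lt_pow_right hp.out.one_lt hev
      have hpe := pow_pos hp.out.pos e
      have r := h.rel (p ^ e) (p ^ v - p ^ e) hpe (by omega) (by omega)
      rw [show p ^ e + (p ^ v - p ^ e) = p ^ v by omega, choose_pow_small hev, zero_smul,
        show d - p ^ e = p ^ v * (m - 1) + (p ^ v - p ^ e) by
          rw [hd, Nat.mul_sub, mul_one]; omega,
        choose_pow_mul_add v (m - 1) _ (by omega), one_smul] at r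
      exact r.symm
    · exact h0
    · have hpm : ¬ p ∣ m := hmp.resolve_right (by
        rintro rfl
        rw [hd, ← pow_succ] at he
        exact absurd ((Nat.pow_lt_pow_iff_right hp.out.one_lt).1 he) (by omega))
      obtain ⟨w, rfl⟩ : ∃ w, e = v + (w + 1) := ⟨e - v - 1, by omega⟩
      have hwm : p ^ (w + 1) < m := by
        rw [hd, pow_add] at he
        exact Nat.lt_of_mul_lt_mul_left he
      have hsub : d - p ^ (v + (w + 1)) = p ^ v * (m - p ^ (w + 1)) := by
        rw [hd, pow_add, Nat.mul_sub]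
      by_cases hsum : p ^ (v + (w + 1)) + p ^ v < d
      · have r1 := h.rel (p ^ v) (p ^ (v + (w + 1))) (pow_pos hp.out.pos _) (pow_pos hp.out.pos _)
          (by omega)
        rw [h0, smul_zero] at r1
        have r2 := h.rel (p ^ (v + (w + 1))) (p ^ v) (pow_pos hp.out.pos _) (pow_pos hp.out.pos _) hsum
        rw [Nat.choose_symm_add, add_comm (p ^ (v + (w + 1))), r1, hsub, choose_pow_mul_pow] at r2
        refine smul_unit_eq_zero ?_ r2.symm
        rw [Ne, ZMod.natCast_eq_zero_iff]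
        intro hdvd
        apply hpm
        have := Nat.dvd_add hdvd (dvd_pow_self p (by omega : w + 1 ≠ 0))
        rwa [Nat.sub_add_cancel hwm.le] at this
      · have h1 : d - p ^ (v + (w + 1)) = p ^ v := by
          have : p ^ v * 1 ≤ p ^ v * (m - p ^ (w + 1)) := Nat.mul_le_mul_left _ (by omega)
          rw [mul_one, ← hsub] at this
          omega
        rw [← h.symm _ (pow_pos hp.out.pos _) he, h1, h0]
  intro i hi hid
  obtain ⟨e, t, ht, rfl⟩ := Nat.exists_eq_pow_mul_and_not_dvd (n := i) (by omega) p hp.out.ne_one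
  by_cases ht1 : t = 1
  · subst ht1; rw [mul_one]; exact hpow e (by simpa using hid)
  have ht0 : t ≠ 0 := fun h => ht (h ▸ dvd_zero p)
  have hle : p ^ e * 1 ≤ p ^ e * t := Nat.mul_le_mul_left _ (by omega)
  rw [mul_one] at hle
  have hlt : p ^ e < p ^ e * t := lt_mul_of_one_lt_right (pow_pos hp.out.pos e) (by omega)
  have r := h.rel (p ^ e) (p ^ e * t - p ^ e) (pow_pos hp.out.pos _) (by omega) (by omega)
  rw [show p ^ e + (p ^ e * t - p ^ e) = p ^ e * t by omega, choose_pow_mul_pow,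
    hpow e (by omega), smul_zero] at r
  exact smul_unit_eq_zero (by rwa [Ne, ZMod.natCast_eq_zero_iff]) r

theorem isCocycle_choose (d : ℕ) (x : M) :
    IsCocycle (p := p) d fun i => ((Nat.choose d i : ℕ) : ZMod p) • x := by
  refine ⟨fun i j hi hj hij => ?_, fun i _ hid => by rw [Nat.choose_symm hid.le]⟩
  rw [smul_smul, smul_smul, ← Nat.cast_mul, ← Nat.cast_mul, mul_comm (Nat.choose (i + j) i),
    Nat.choose_mul (Nat.le_add_right i j), Nat.add_sub_cancel_left, mul_comm (Nat.choose d i)]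

theorem IsCocycle.sub {d : ℕ} {φ ψ : ℕ → M} (h : IsCocycle (p := p) d φ)
    (h' : IsCocycle (p := p) d ψ) : IsCocycle (p := p) d fun i => φ i - ψ i :=
  ⟨fun i j hi hj hij => by rw [smul_sub, smul_sub, h.rel i j hi hj hij, h'.rel i j hi hj hij],
    fun i hi hid => by rw [h.symm i hi hid, h'.symm i hi hid]⟩

/-- In a degree which is no power of `p` a cocycle is a coboundary. -/
theorem IsCocycle.exists_coboundary {d : ℕ} (hd0 : d ≠ 0) (hd : ∀ k, d ≠ p ^ k) {φ : ℕ → M}
    (h : IsCocycle (p := p) d φ) :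
    ∃ v t, d = p ^ v * t ∧ 2 ≤ t ∧
      ∀ i, 1 ≤ i → i < d → φ i = ((Nat.choose d i : ℕ) : ZMod p) • (((t : ℕ) : ZMod p)⁻¹ • φ (p ^ v)) := by
  obtain ⟨v, t, ht, rfl⟩ := Nat.exists_eq_pow_mul_and_not_dvd hd0 p hp.out.ne_one
  have ht2 : 2 ≤ t := by
    rcases t with _ | _ | t
    · exact absurd (dvd_zero p) ht
    · exact absurd (mul_one _) (hd v)
    · omega
  refine ⟨v, t, rfl, ht2, fun i hi hid => sub_eq_zero.1 ?_⟩
  refine (h.sub (isCocycle_choose _ _)).eq_zero ht2 (Or.inl ht) ?_ i hi hid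
  show φ (p ^ v) - _ = 0
  rw [choose_pow_mul_pow, smul_smul, mul_inv_cancel₀ (by rwa [Ne, ZMod.natCast_eq_zero_iff]),
    one_smul, sub_self]

end Groth.Agent.GaSplit
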